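import Cfsg.Agent.Lib.EqOrder.Tools

/-!
# Subgroups of equal order conjugate, elementary abelian Sylow 2-subgroup
-/

set_option autoImplicit false
set_option linter.unusedSectionVars false
set_option linter.style.haveILetI false

namespace CfsgLib.EqOrder

open Subgroup CfsgLib.Invol
open scoped MatrixGroups

/-- The hypotheses of the elementary abelian case. -/
structure Base {G : Type*} [Group G] (T : Sylow 2 G) : Prop where
  eq : EqConj G
  core : Cfsg.oddCore G = ⊥
  sq : ∀ a ∈ (T : Subgroup G), a * a = 1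
  four : 4 ≤ Nat.card (T : Subgroup G)

variable {G : Type*} [Group G] [Finite G] {T : Sylow 2 G}

/-- The centraliser of `s` in the normalizer of `T`, as a subgroup of the latter. -/
abbrev Stab (T : Sylow 2 G) (s : G) : Subgroup (NH T) :=
  (Subgroup.centralizer ({s} : Set G)).subgroupOf (NH T)

/-- The centraliser of `T` in its normalizer. -/
abbrev CN (T : Sylow 2 G) : Subgroup (NH T) := (CT T).subgroupOf (NH T)

namespace Base

variable (h : Base T)
include h

theorem comm {a b : G} (ha : a ∈ (T : Subgroup G)) (hb : b ∈ (T : Subgroup G)) : Commute a b := by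
  have hinv : ∀ c ∈ (T : Subgroup G), c⁻¹ = c := fun c hc => inv_eq_of_mul_eq_one_right (h.sq c hc)
  calc a * b = (a * b)⁻¹ := (hinv _ (mul_mem ha hb)).symm
    _ = b * a := by rw [mul_inv_rev, hinv a ha, hinv b hb]

theorem T_le_CT : (T : Subgroup G) ≤ CT T := fun _ ha => mem_CT.2 fun _ hb => h.comm ha hb

theorem invol {a : G} (ha : a ∈ (T : Subgroup G)) (ha1 : a ≠ 1) : orderOf a = 2 :=
  invol_of_mul_self (h.sq a ha) ha1

theorem exists_ne_one : ∃ s ∈ (T : Subgroup G), s ≠ 1 := by
  by_contra hc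
  push Not at hc
  have e : (T : Subgroup G) = ⊥ := (Subgroup.eq_bot_iff_forall _).2 hc
  have := h.four
  rw [e, Subgroup.card_bot] at this
  omega

theorem mem_NH {s g : G} (hs : s ∈ (T : Subgroup G)) (hs1 : s ≠ 1) (hg : Commute g s) : g ∈ NH T :=
  h.eq.dich.commute_le_normalizer T h.sq hs hs1 hg

theorem trans {s t : G} (hs : s ∈ (T : Subgroup G)) (hs1 : s ≠ 1) (ht : t ∈ (T : Subgroup G))
    (ht1 : t ≠ 1) : ∃ d ∈ NH T, d * s * d⁻¹ = t := by
  obtain ⟨g, hg⟩ := h.eq.conj_invol (h.invol hs hs1) (h.invol ht ht1)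
  haveI : IsMulCommutative (T : Subgroup G) := ⟨⟨fun a b => Subtype.ext (h.comm a.2 b.2).eq⟩⟩
  haveI : Fact (Nat.Prime 2) := ⟨Nat.prime_two⟩
  obtain ⟨n, hn, hn'⟩ := T.conj_eq_normalizer_conj_of_mem s g⁻¹ hs (by rwa [inv_inv, hg])
  refine ⟨n⁻¹, inv_mem hn, ?_⟩
  rw [inv_inv, ← hn', inv_inv, hg]

theorem stab_index {s : G} (hs : s ∈ (T : Subgroup G)) (hs1 : s ≠ 1) :
    (Stab T s).index = Nat.card (T : Subgroup G) - 1 := by
  classical
  haveI := Fintype.ofFinite (T : Subgroup G)
  let f : NH T ⧸ Stab T s → {a : (T : Subgroup G) // a ≠ 1} :=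
    Quotient.lift (fun d : NH T => ⟨⟨(d : G) * s * (d : G)⁻¹, CAHyp.conj_mem d.2 hs⟩,
      fun e => hs1 (by simpa using congrArg Subtype.val e)⟩) (by
      intro a b hab
      have hab' : a⁻¹ * b ∈ Stab T s := QuotientGroup.leftRel_apply.1 hab
      have hc := Subgroup.mem_centralizer_singleton_iff.1 (Subgroup.mem_subgroupOf.1 hab')
      simp only [Subgroup.coe_mul, Subgroup.coe_inv] at hc
      refine Subtype.ext (Subtype.ext ?_)
      show (a : G) * s * (a : G)⁻¹ = (b : G) * s * (b : G)⁻¹
      have e : ((a : G)⁻¹ * b) * s * ((a : G)⁻¹ * b)⁻¹ = s := by rw [hc, mul_inv_cancel_right]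
      calc (a : G) * s * (a : G)⁻¹
          = (a : G) * (((a : G)⁻¹ * b) * s * ((a : G)⁻¹ * b)⁻¹) * (a : G)⁻¹ := by rw [e]
        _ = _ := by group)
  have hf : Function.Bijective f := by
    constructor
    · intro a b e
      obtain ⟨a, rfl⟩ := QuotientGroup.mk_surjective a
      obtain ⟨b, rfl⟩ := QuotientGroup.mk_surjective b
      have e' : (a : G) * s * (a : G)⁻¹ = (b : G) * s * (b : G)⁻¹ :=
        congrArg (fun t => (t.1 : G)) e
      refine QuotientGroup.eq.2 (Subgroup.mem_subgroupOf.2 (Subgroup.mem_centralizer_singleton_iff.2 ?_))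
      simp only [Subgroup.coe_mul, Subgroup.coe_inv]
      calc (a : G)⁻¹ * b * s = (a : G)⁻¹ * ((b : G) * s * (b : G)⁻¹) * b := by group
        _ = (a : G)⁻¹ * ((a : G) * s * (a : G)⁻¹) * b := by rw [e']
        _ = _ := by group
    · rintro ⟨⟨t, ht⟩, ht1⟩
      obtain ⟨d, hd, hdt⟩ := h.trans hs hs1 ht (fun e => ht1 (Subtype.ext e))
      exact ⟨((⟨d, hd⟩ : NH T) : NH T ⧸ Stab T s), Subtype.ext (Subtype.ext hdt)⟩
  rw [Subgroup.index, Nat.card_congr (Equiv.ofBijective f hf), Nat.card_eq_fintype_card,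
    Nat.card_eq_fintype_card, Fintype.card_subtype_compl, Fintype.card_subtype_eq]

omit h in
theorem CN_le_stab {s : G} (hs : s ∈ (T : Subgroup G)) : CN T ≤ Stab T s := fun c hc =>
  Subgroup.mem_subgroupOf.2
    (Subgroup.mem_centralizer_singleton_iff.2 (mem_CT.1 (Subgroup.mem_subgroupOf.1 hc) s hs).eq)

omit h in
theorem CN_normal : (CN T).Normal :=
  ⟨fun _ hc m => Subgroup.mem_subgroupOf.2 (CT_conj_mem m.2 (Subgroup.mem_subgroupOf.1 hc))⟩

theorem odd_CN_index : Odd (CN T).index := by
  refine Odd.of_dvd_nat (odd_index_sylow_two T) ?_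
  refine (Subgroup.index_dvd_of_le (H := (T : Subgroup G).subgroupOf (NH T)) ?_).trans
    (Dvd.intro _ (Subgroup.relIndex_mul_index (H := (T : Subgroup G)) Subgroup.le_normalizer))
  exact fun a ha => Subgroup.mem_subgroupOf.2 (h.T_le_CT (Subgroup.mem_subgroupOf.1 ha))

/-- When `T` is normal, `C(T) = T`. -/
theorem CT_eq_of_normal (hn : (T : Subgroup G).Normal) : CT T = (T : Subgroup G) := by
  haveI : Fact (Nat.Prime 2) := ⟨Nat.prime_two⟩
  set T' : Sylow 2 (CT T) := T.subtype h.T_le_CT with hT'
  have hN : Subgroup.normalizer ((T' : Subgroup (CT T)) : Set (CT T)) ≤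
      Subgroup.centralizer ((T' : Subgroup (CT T)) : Set (CT T)) := by
    intro x _
    rw [mem_centralizer_iff]
    intro a ha
    exact Subtype.ext ((mem_CT.1 x.2 _ (Subgroup.mem_subgroupOf.1 ha)).eq).symm
  have hco := MonoidHom.ker_transferSylow_isComplement' T' hN
  haveI : (CT T).Normal := by
    haveI := hn
    infer_instance
  have hodd : Odd (Nat.card (MonoidHom.transferSylow T' hN).ker) := by
    rw [← hco.index_eq_card]; exact odd_index_sylow_two T'
  have hle := le_oddCore (MonoidHom.normal_ker (MonoidHom.transferSylow T' hN)) hodd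
  rw [oddCore_eq_bot_of_normal h.core, le_bot_iff] at hle
  rw [hle] at hco
  have htop := Subgroup.isComplement'_bot_left.1 hco
  refine le_antisymm (fun c hc => ?_) h.T_le_CT
  exact Subgroup.mem_subgroupOf.1 (htop ▸ Subgroup.mem_top (⟨c, hc⟩ : CT T) :
    (⟨c, hc⟩ : CT T) ∈ (T' : Subgroup (CT T)))

theorem ctx (hn : ¬ (T : Subgroup G).Normal) (hp : (Nat.card (T : Subgroup G) - 1).Prime)
    (hidx : (CN T).index = Nat.card (T : Subgroup G) - 1) : Ctx T := by
  refine ⟨h.sq, h.four, hn, h.eq.dich, fun s hs hs1 c hc hcs a ha => ?_, hp,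
    fun p hp' ho => h.eq.ab hp' ho⟩
  have he : CN T = Stab T s := by
    refine le_antisymm (CN_le_stab hs) ?_
    have h1 := Subgroup.relIndex_mul_index (CN_le_stab (T := T) hs)
    rw [hidx, h.stab_index hs hs1] at h1
    have h2 : (CN T).relIndex (Stab T s) = 1 :=
      Nat.eq_of_mul_eq_mul_right hp.pos (by rw [h1, one_mul])
    exact Subgroup.relIndex_eq_one.1 h2
  have hm : (⟨c, hc⟩ : NH T) ∈ Stab T s :=
    Subgroup.mem_subgroupOf.2 (Subgroup.mem_centralizer_singleton_iff.2 hcs.eq)
  rw [← he] at hm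
  exact mem_CT.1 (Subgroup.mem_subgroupOf.1 hm) a ha

theorem sl_two (hn : ¬ (T : Subgroup G).Normal) (hp : (Nat.card (T : Subgroup G) - 1).Prime)
    (hidx : (CN T).index = Nat.card (T : Subgroup G) - 1) : IsSLTwo G :=
  isSLTwo_of_ctx _ G T rfl (h.ctx hn hp hidx) h.core

/-- For a four-group the normalizer induces a group of order three. -/
theorem index_CN_four (h4 : Nat.card (T : Subgroup G) = 4) : (CN T).index = 3 := by
  classical
  obtain ⟨s, hs, hs1⟩ := h.exists_ne_one
  haveI := CN_normal (T := T)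
  have he : CN T = Stab T s := by
    refine le_antisymm (CN_le_stab hs) fun c hc => ?_
    have hcs : Commute (c : G) s :=
      Subgroup.mem_centralizer_singleton_iff.1 (Subgroup.mem_subgroupOf.1 hc)
    have h2 : c ^ 2 ∈ CN T := by
      refine Subgroup.mem_subgroupOf.2 (mem_CT.2 fun a ha => ?_)
      simp only [SubgroupClass.coe_pow]
      by_cases ha1 : a = 1
      · rw [ha1]; exact Commute.one_right _
      by_cases has : a = s
      · rw [has]; exact hcs.pow_left 2
      -- `c` permutes `a` and `s * a`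
      have hca : (c : G) * a * (c : G)⁻¹ ∈ (T : Subgroup G) := CAHyp.conj_mem c.2 ha
      have hmem : ∀ t ∈ (T : Subgroup G), t = 1 ∨ t = s ∨ t = a ∨ t = s * a := by
        intro t ht
        by_contra hne
        push Not at hne
        haveI := Fintype.ofFinite (T : Subgroup G)
        let f : Fin 5 → (T : Subgroup G) :=
          ![1, ⟨s, hs⟩, ⟨a, ha⟩, ⟨s * a, mul_mem hs ha⟩, ⟨t, ht⟩]
        have hsa1 : s * a ≠ 1 := fun e => has (by
          rw [← inv_eq_of_mul_eq_one_right e, inv_eq_of_mul_eq_one_right (h.sq s hs)])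
        have hsas : s * a ≠ s := fun e => ha1 (by simpa using e)
        have hsaa : s * a ≠ a := fun e => hs1 (by simpa using e)
        have hf : Function.Injective f := by
          intro i j hij
          have hij' := congrArg Subtype.val hij
          fin_cases i <;> fin_cases j <;> first
            | rfl
            | (exfalso; simp [f] at hij';
               first
                | exact hs1 hij' | exact hs1 hij'.symm | exact ha1 hij' | exact ha1 hij'.symm
                | exact has hij' | exact has hij'.symm | exact hsa1 hij' | exact hsa1 hij'.symm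
                | exact hsas hij' | exact hsas hij'.symm | exact hsaa hij' | exact hsaa hij'.symm
                | exact hne.1 hij' | exact hne.1 hij'.symm | exact hne.2.1 hij'
                | exact hne.2.1 hij'.symm | exact hne.2.2.1 hij' | exact hne.2.2.1 hij'.symm
                | exact hne.2.2.2 hij' | exact hne.2.2.2 hij'.symm)
        have := Fintype.card_le_of_injective f hf
        rw [Fintype.card_fin, ← Nat.card_eq_fintype_card, h4] at this
        omega
      show (c : G) ^ 2 * a = a * (c : G) ^ 2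
      have key : (c : G) ^ 2 * a * ((c : G) ^ 2)⁻¹ = a := by
        have e : (c : G) ^ 2 * a * ((c : G) ^ 2)⁻¹ = (c : G) * ((c : G) * a * (c : G)⁻¹) * (c : G)⁻¹ := by
          rw [pow_two]; group
        rcases hmem _ hca with e1 | e1 | e1 | e1
        · exact absurd (conj_eq_one_iff.1 e1) ha1
        · exact absurd (by
            calc a = (c : G)⁻¹ * ((c : G) * a * (c : G)⁻¹) * c := by group
              _ = s := by rw [e1, mul_assoc, ← hcs.eq, inv_mul_cancel_left]) has
        · rw [e, e1, e1]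
        · rw [e, e1]
          calc (c : G) * (s * a) * (c : G)⁻¹ = ((c : G) * s * (c : G)⁻¹) * ((c : G) * a * (c : G)⁻¹) := by group
            _ = a := by
              rw [hcs.eq, mul_inv_cancel_right, e1, ← mul_assoc, h.sq s hs, one_mul]
      exact mul_inv_eq_iff_eq_mul.1 key
    obtain ⟨k, hk⟩ := h.odd_CN_index
    have h3 : c ^ (2 * k + 1) ∈ CN T := hk ▸ Subgroup.pow_index_mem _ c
    rw [pow_succ, pow_mul] at h3
    exact (Subgroup.mul_mem_cancel_left _ (pow_mem h2 k)).1 h3
  rw [he, h.stab_index hs hs1, h4]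

/-- The translations are the image of `T`: the centraliser of `T` in `N(T)` has the expected
index. -/
theorem index_CN_of_translations {R : Type*} [Field R] [Fintype R] [CharP R 2]
    (M : Subgroup (Equiv.Perm R)) (hMt : ∀ b : R, Equiv.addRight b ∈ M) {k : ℕ} (hk : Odd k)
    (hM : Nat.card M = Fintype.card R * k) (hR : Fintype.card R = Nat.card (T : Subgroup G))
    (ψ : NH T ⧸ Cfsg.pPrimeCore 2 (NH T) ≃* M) : (CN T).index = k := by
  classical
  haveI hOn : (Cfsg.pPrimeCore 2 (NH T)).Normal := CfsgLib.Solvable.pPrimeCore_normal 2 _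
  set O := Cfsg.pPrimeCore 2 (NH T) with hO
  set φ : NH T →* M := ψ.toMonoidHom.comp (QuotientGroup.mk' O) with hφ
  have hφs : Function.Surjective φ := ψ.surjective.comp (QuotientGroup.mk'_surjective O)
  have hφk : φ.ker = O := by
    ext x
    rw [MonoidHom.mem_ker, hφ]
    exact ψ.map_eq_one_iff.trans (QuotientGroup.eq_one_iff x)
  have hOodd : Odd (Nat.card O) := odd_card_oddCore (NH T)
  set TN := (T : Subgroup G).subgroupOf (NH T) with hTN
  haveI hTNn : TN.Normal := ⟨fun a ha g => (Subgroup.mem_normalizer_iff.1 g.2 a).1 ha⟩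
  have hTNO : TN ⊓ O = ⊥ := by
    refine (Subgroup.eq_bot_iff_forall _).2 fun x hx => ?_
    exact eq_one_of_sq (Subtype.ext (h.sq _ (Subgroup.mem_subgroupOf.1 hx.1)))
      (odd_orderOf_of_mem hOodd hx.2)
  set T' := TN.map φ with hT'
  haveI : T'.Normal := Subgroup.Normal.map hTNn φ hφs
  have hT'card : Nat.card T' = Fintype.card R := by
    rw [hR, ← Nat.card_congr (Subgroup.subgroupOfEquivOfLe (H := (T : Subgroup G))
      Subgroup.le_normalizer).toEquiv]
    refine (Nat.card_congr (Equiv.ofBijective (fun x : TN => (⟨φ x, x, x.2, rfl⟩ : T')) ⟨?_, ?_⟩)).symm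
    · intro a b e
      have e' : φ a = φ b := congrArg Subtype.val e
      have hker : (a : NH T)⁻¹ * b ∈ O := by
        rw [← hφk, MonoidHom.mem_ker, map_mul, map_inv, e', inv_mul_cancel]
      have hm : (a : NH T)⁻¹ * b ∈ TN ⊓ O :=
        Subgroup.mem_inf.2 ⟨TN.mul_mem (TN.inv_mem a.2) b.2, hker⟩
      rw [hTNO, Subgroup.mem_bot, inv_mul_eq_one] at hm
      exact Subtype.ext hm
    · rintro ⟨_, x, hx, rfl⟩
      exact ⟨⟨x, hx⟩, rfl⟩
  have hidx : T'.index = k := by
    have h1 := T'.card_mul_index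
    rw [hT'card, hM] at h1
    exact Nat.eq_of_mul_eq_mul_left Fintype.card_pos h1
  have hτ : ∀ b : R, (⟨Equiv.addRight b, hMt b⟩ : M) ∈ T' := by
    intro b
    set x : M := ⟨Equiv.addRight b, hMt b⟩
    have hxx : x * x = 1 := Subtype.ext (Equiv.ext fun y => by
      simp [x, add_assoc, CharTwo.add_self_eq_zero])
    obtain ⟨j, hj⟩ := hk
    have h3 : x ^ (2 * j + 1) ∈ T' := hj ▸ hidx ▸ Subgroup.pow_index_mem T' x
    rwa [pow_succ, pow_mul, pow_two, hxx, one_pow, one_mul] at h3
  have hbij : Function.Bijective fun b : R => (⟨_, hτ b⟩ : T') := by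
    refine Function.Injective.bijective_of_nat_card_le (fun a b e => ?_)
      (by rw [hT'card, Nat.card_eq_fintype_card])
    have e' := congrArg (fun t : T' => ((t : M) : Equiv.Perm R) 0) e
    simpa using e'
  have hCN : CN T = T'.comap φ := by
    refine le_antisymm (fun c hc => ?_) (fun c hc => ?_)
    · have hcc : ∀ b : R, ((φ c : M) : Equiv.Perm R) (0 + b) = ((φ c : M) : Equiv.Perm R) 0 + b := by
        intro b
        obtain ⟨t, ht, htb⟩ := hτ b
        have hcomm : φ c * φ t = φ t * φ c := by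
          rw [← map_mul, ← map_mul]
          exact congrArg φ (Subtype.ext
            (mem_CT.1 (Subgroup.mem_subgroupOf.1 hc) _ (Subgroup.mem_subgroupOf.1 ht)).eq)
        rw [htb] at hcomm
        have := congrArg (fun m : M => (m : Equiv.Perm R) 0) hcomm
        simpa using this
      have he : φ c = (⟨_, hMt (((φ c : M) : Equiv.Perm R) 0)⟩ : M) := Subtype.ext (Equiv.ext fun y => by
        have := hcc y
        rw [zero_add] at this
        rw [this, Equiv.coe_addRight, add_comm])
      show φ c ∈ T'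
      rw [he]; exact hτ _
    · obtain ⟨t, ht, htc⟩ := (hc : φ c ∈ T')
      have hm : t⁻¹ * c ∈ O := by
        rw [← hφk, MonoidHom.mem_ker, map_mul, map_inv, htc, inv_mul_cancel]
      refine Subgroup.mem_subgroupOf.2 (mem_CT.2 fun a ha => ?_)
      set a' : NH T := ⟨a, Subgroup.le_normalizer ha⟩
      have ha' : a' ∈ TN := Subgroup.mem_subgroupOf.2 ha
      have hca : Commute t a' := Subtype.ext (h.comm (Subgroup.mem_subgroupOf.1 ht) ha).eq
      have hoa : Commute (t⁻¹ * c) a' :=
        Subgroup.commute_of_normal_of_disjoint _ _ hOn hTNn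
          (disjoint_iff.2 (by rw [inf_comm]; exact hTNO)) _ _ hm ha'
      have := congrArg Subtype.val (hca.mul_left hoa).eq
      show (c : G) * a = a * c
      simpa [a'] using this
  rw [hCN, Subgroup.index_comap_of_surjective _ hφs, hidx]

/-- When `T` is normal, the group is the quotient of its normalizer. -/
theorem equiv_of_normal (hn : (T : Subgroup G).Normal) {M : Type*} [Group M]
    (ψ : NH T ⧸ Cfsg.pPrimeCore 2 (NH T) ≃* M) : Nonempty (G ≃* M) := by
  have htop : NH T = ⊤ := Subgroup.normalizer_eq_top_iff.2 hn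
  have hO : Cfsg.pPrimeCore 2 (NH T) = ⊥ := by
    haveI : (NH T).Normal := by rw [htop]; infer_instance
    exact oddCore_eq_bot_of_normal h.core (NH T)
  exact ⟨Subgroup.topEquiv.symm.trans ((MulEquiv.subgroupCongr htop.symm).trans
    (QuotientGroup.quotientBot.symm.trans
      ((QuotientGroup.quotientMulEquivOfEq hO.symm).trans ψ)))⟩

end Base

end CfsgLib.EqOrder
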