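import Mathlib.LinearAlgebra.Matrix.SpecialLinearGroup
import Mathlib.LinearAlgebra.Matrix.Notation
import Mathlib.FieldTheory.Finite.Basic

/-!
# Involutions of `SL(2, F)` in characteristic two
-/

set_option autoImplicit false

namespace CfsgLib.EqOrder

open Matrix
open scoped MatrixGroups

variable {F : Type*} [Field F] [CharP F 2]

theorem sl_two_mul_self {m : SL(2, F)}
    (h : (m : Matrix (Fin 2) (Fin 2) F) 0 0 = (m : Matrix (Fin 2) (Fin 2) F) 1 1) : m * m = 1 := by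
  have hd : (m : Matrix (Fin 2) (Fin 2) F).det = 1 := m.2
  rw [det_fin_two, ← h, CharTwo.sub_eq_add] at hd
  refine Subtype.ext ?_
  show (m : Matrix (Fin 2) (Fin 2) F) * (m : Matrix (Fin 2) (Fin 2) F) = 1
  ext i j
  fin_cases i <;> fin_cases j <;> simp [Matrix.mul_apply, Fin.sum_univ_two, ← h]
  · linear_combination hd
  · linear_combination ((m : Matrix (Fin 2) (Fin 2) F) 0 1 * (m : Matrix (Fin 2) (Fin 2) F) 0 0) * (CharTwo.two_eq_zero (R := F))
  · linear_combination ((m : Matrix (Fin 2) (Fin 2) F) 1 0 * (m : Matrix (Fin 2) (Fin 2) F) 0 0) * (CharTwo.two_eq_zero (R := F))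
  · linear_combination hd

omit [CharP F 2] in
theorem sl_two_diag_eq {s : SL(2, F)} (hs : s * s = 1) :
    (s : Matrix (Fin 2) (Fin 2) F) 0 0 = (s : Matrix (Fin 2) (Fin 2) F) 1 1 := by
  have h := inv_eq_of_mul_eq_one_right hs
  have h' := congrArg (fun x : SL(2, F) => (x : Matrix (Fin 2) (Fin 2) F) 0 0) h
  simp [Matrix.SpecialLinearGroup.coe_inv, adjugate_fin_two] at h'
  exact h'.symm

/-- A centraliser of an involution of `SL(2, F)` has exponent two. -/
theorem sl_two_commute_invol {s c : SL(2, F)} (hs : s * s = 1) (hs1 : s ≠ 1) (hc : Commute c s) :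
    c * c = 1 := by
  refine sl_two_mul_self ?_
  have had := sl_two_diag_eq hs
  have hd : (s : Matrix (Fin 2) (Fin 2) F).det = 1 := s.2
  rw [det_fin_two, ← had] at hd
  have hm : (c : Matrix (Fin 2) (Fin 2) F) * (s : Matrix (Fin 2) (Fin 2) F) =
      (s : Matrix (Fin 2) (Fin 2) F) * (c : Matrix (Fin 2) (Fin 2) F) := congrArg Subtype.val hc.eq
  have h01 := congrArg (fun M : Matrix (Fin 2) (Fin 2) F => M 0 1) hm
  have h10 := congrArg (fun M : Matrix (Fin 2) (Fin 2) F => M 1 0) hm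
  simp [Matrix.mul_apply, Fin.sum_univ_two, ← had] at h01 h10
  by_contra hne
  have hb : (s : Matrix (Fin 2) (Fin 2) F) 0 1 = 0 := by
    have : (s : Matrix (Fin 2) (Fin 2) F) 0 1 *
        ((c : Matrix (Fin 2) (Fin 2) F) 0 0 - (c : Matrix (Fin 2) (Fin 2) F) 1 1) = 0 := by
      linear_combination h01
    exact (mul_eq_zero.1 this).resolve_right (sub_ne_zero.2 hne)
  have hcc : (s : Matrix (Fin 2) (Fin 2) F) 1 0 = 0 := by
    have : (s : Matrix (Fin 2) (Fin 2) F) 1 0 *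
        ((c : Matrix (Fin 2) (Fin 2) F) 0 0 - (c : Matrix (Fin 2) (Fin 2) F) 1 1) = 0 := by
      linear_combination -h10
    exact (mul_eq_zero.1 this).resolve_right (sub_ne_zero.2 hne)
  refine hs1 (Subtype.ext ?_)
  rw [hb, hcc] at hd
  have h1 : (s : Matrix (Fin 2) (Fin 2) F) 0 0 = 1 := by
    have : ((s : Matrix (Fin 2) (Fin 2) F) 0 0 - 1) * ((s : Matrix (Fin 2) (Fin 2) F) 0 0 - 1) = 0 := by
      linear_combination hd - ((s : Matrix (Fin 2) (Fin 2) F) 0 0 - 1) * (CharTwo.two_eq_zero (R := F))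
    exact sub_eq_zero.1 (mul_self_eq_zero.1 this)
  ext i j
  fin_cases i <;> fin_cases j <;> simp [hb, hcc, h1, ← had]

/-- Every element of `SL(2, F)` is inverted by an involution. -/
theorem sl_two_exists_inverting [Finite F] (x : SL(2, F)) :
    ∃ j : SL(2, F), orderOf j = 2 ∧ j * x * j⁻¹ = x⁻¹ := by
  have hd : (x : Matrix (Fin 2) (Fin 2) F).det = 1 := x.2
  rw [det_fin_two] at hd
  suffices h : ∃ j : SL(2, F), j ≠ 1 ∧ j * j = 1 ∧ (j * x) * (j * x) = 1 by
    obtain ⟨j, hj1, hj, hjx⟩ := h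
    refine ⟨j, orderOf_eq_prime (by rwa [pow_two]) hj1, ?_⟩
    rw [inv_eq_of_mul_eq_one_right hj]
    exact (inv_eq_of_mul_eq_one_left (by rw [← hjx]; simp only [mul_assoc])).symm
  by_cases ht : (x : Matrix (Fin 2) (Fin 2) F) 0 0 = (x : Matrix (Fin 2) (Fin 2) F) 1 1
  · by_cases hx1 : x = 1
    · obtain ⟨j, hj⟩ : ∃ j : SL(2, F), (j : Matrix (Fin 2) (Fin 2) F) = !![1, 1; 0, 1] :=
        ⟨⟨!![1, 1; 0, 1], by simp [det_fin_two]⟩, rfl⟩
      have hjj : j * j = 1 := sl_two_mul_self (by simp [hj])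
      refine ⟨j, fun e => ?_, hjj, by rw [hx1, mul_one, hjj]⟩
      rw [e] at hj
      have := congrArg (fun m : Matrix (Fin 2) (Fin 2) F => m 0 1) hj
      simp at this
    · exact ⟨x, hx1, sl_two_mul_self ht, by rw [sl_two_mul_self ht, mul_one]⟩
  obtain ⟨a, ha⟩ : ∃ a, a = (x : Matrix (Fin 2) (Fin 2) F) 0 0 := ⟨_, rfl⟩
  obtain ⟨b, hb⟩ : ∃ b, b = (x : Matrix (Fin 2) (Fin 2) F) 0 1 := ⟨_, rfl⟩
  obtain ⟨c, hc⟩ : ∃ c, c = (x : Matrix (Fin 2) (Fin 2) F) 1 0 := ⟨_, rfl⟩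
  obtain ⟨d, hd'⟩ : ∃ d, d = (x : Matrix (Fin 2) (Fin 2) F) 1 1 := ⟨_, rfl⟩
  have htne : a + d ≠ 0 := fun e => ht (by rw [← ha, ← hd', CharTwo.add_eq_zero.1 e])
  obtain ⟨α, β, γ, hlin, hD⟩ : ∃ α β γ : F, α * (a + d) + β * c + γ * b = 0 ∧ α * α + β * γ ≠ 0 := by
    by_cases hc0 : c = 0
    · by_cases hb0 : b = 0
      · exact ⟨0, 1, 1, by simp [hc0, hb0], by simp⟩
      · exact ⟨-b / (a + d), 0, 1, by field_simp; ring, by simp [hb0, htne]⟩
    · exact ⟨-c / (a + d), 1, 0, by field_simp; ring, by simp [hc0, htne]⟩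
  obtain ⟨r, hr⟩ := FiniteField.isSquare_of_char_two (ringChar.eq F 2) (α * α + β * γ)
  have hr0 : r ≠ 0 := by rintro rfl; exact hD (by simpa using hr)
  have hdet : (!![α / r, β / r; γ / r, α / r] : Matrix (Fin 2) (Fin 2) F).det = 1 := by
    rw [det_fin_two_of, CharTwo.sub_eq_add]
    field_simp
    linear_combination hr
  obtain ⟨j, hj⟩ : ∃ j : SL(2, F), (j : Matrix (Fin 2) (Fin 2) F) = !![α / r, β / r; γ / r, α / r] :=
    ⟨⟨_, hdet⟩, rfl⟩
  refine ⟨j, fun e => ?_, sl_two_mul_self (by simp [hj]), sl_two_mul_self ?_⟩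
  · rw [e] at hj
    have e00 := (congrArg (fun m : Matrix (Fin 2) (Fin 2) F => m 0 0) hj).symm
    have e01 := (congrArg (fun m : Matrix (Fin 2) (Fin 2) F => m 0 1) hj).symm
    have e10 := (congrArg (fun m : Matrix (Fin 2) (Fin 2) F => m 1 0) hj).symm
    simp [div_eq_iff hr0] at e00 e01 e10
    rw [e01, e10] at hlin
    simp [e00, hr0, htne] at hlin
  · have key : α / r * a + β / r * c - (γ / r * b + α / r * d) = 0 := by
      rw [CharTwo.sub_eq_add]
      field_simp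
      linear_combination hlin
    rw [Matrix.SpecialLinearGroup.coe_mul, hj, Matrix.mul_apply, Matrix.mul_apply, Fin.sum_univ_two,
      Fin.sum_univ_two, ← ha, ← hb, ← hc, ← hd']
    simpa [sub_eq_zero] using key

end CfsgLib.EqOrder
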