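import Cfsg.Agent.Lib.EqOrder.Setup
import Cfsg.Agent.Lib.EqOrder.SLTwo
import Cfsg.Agent.Lib.Comp.Signalizer
import Cfsg.Agent.Lib.Complement.FpfNilpotent
import Cfsg.Agent.Lib.Fusion.ZStarCenter
import Cfsg.Agent.Lib.FT.OddOrder
import Cfsg.Agent.S2202

/-!
# A group with this action and trivial odd core is `SL(2, 2ⁿ)`
-/

set_option autoImplicit false
set_option linter.unusedSectionVars false
set_option linter.style.haveILetI false

namespace CfsgLib.EqOrder

open Subgroup CfsgLib.Invol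
open scoped MatrixGroups

universe u

/-- The conclusion. -/
def IsSLTwo (G : Type*) [Group G] : Prop :=
  ∃ (F : Type) (_ : Field F) (_ : Fintype F), CharP F 2 ∧
    Nonempty (G ≃* Matrix.SpecialLinearGroup (Fin 2) F)

theorem IsSLTwo.sq_of_commute {G : Type*} [Group G] (h : IsSLTwo G) {s c : G}
    (hs : orderOf s = 2) (hc : Commute c s) : c * c = 1 := by
  obtain ⟨F, _, _, h2, ⟨e⟩⟩ := h
  refine e.injective ?_
  rw [map_mul, map_one]
  exact sl_two_commute_invol (by rw [← map_mul, invol_mul_self hs, map_one])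
    (fun he => invol_ne_one hs (e.map_eq_one_iff.1 he)) (hc.map e.toMonoidHom)

theorem IsSLTwo.exists_inverting {G : Type*} [Group G] (h : IsSLTwo G) (g : G) :
    ∃ j : G, orderOf j = 2 ∧ j * g * j⁻¹ = g⁻¹ := by
  obtain ⟨F, _, _, h2, ⟨e⟩⟩ := h
  obtain ⟨j, hj, hjg⟩ := sl_two_exists_inverting (e g)
  refine ⟨e.symm j, by rw [MulEquiv.orderOf_eq, hj], e.injective ?_⟩
  simp [hjg]

variable {G : Type u} [Group G] [Finite G] {T : Sylow 2 G}

theorem odd_orderOf_of_mem {H : Subgroup G} (hH : Odd (Nat.card H)) {g : G} (hg : g ∈ H) :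
    Odd (orderOf g) :=
  Odd.of_dvd_nat hH (Subgroup.orderOf_dvd_natCard H hg)

theorem eq_one_of_sq {g : G} (h : g * g = 1) (ho : Odd (orderOf g)) : g = 1 :=
  orderOf_eq_one_iff.1 (Nat.eq_one_of_dvd_coprimes (Nat.coprime_two_right.2 ho) dvd_rfl
    (orderOf_dvd_of_pow_eq_one (by rw [pow_two, h])))

theorem normal_oddCore (G : Type*) [Group G] : (Cfsg.oddCore G).Normal :=
  CfsgLib.Solvable.pPrimeCore_normal 2 G

namespace Ctx

variable (h : Ctx T)
include h

theorem subgroup {L : Subgroup G} (hTL : (T : Subgroup G) ≤ L) {g : G} (hgL : g ∈ L)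
    (hg : g ∉ NH T) : Ctx (T.subtype hTL) := by
  have hmem : ∀ {x : L}, x ∈ ((T.subtype hTL : Sylow 2 L) : Subgroup L) ↔ (x : G) ∈ (T : Subgroup G) :=
    fun {x} => Subgroup.mem_subgroupOf
  have hcard : Nat.card ((T.subtype hTL : Sylow 2 L) : Subgroup L) = Nat.card (T : Subgroup G) :=
    Nat.card_congr (subgroupOfEquivOfLe hTL).toEquiv
  refine ⟨fun a ha => Subtype.ext (h.sq _ (hmem.1 ha)), hcard ▸ h.four, fun hn => hg ?_,
    h.dich.subgroup L, ?_, hcard ▸ h.prime, ?_⟩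
  · rw [Subgroup.mem_normalizer_iff]
    refine fun a => ⟨fun ha => hmem.1 (hn.conj_mem ⟨a, hTL ha⟩ (hmem.2 ha) ⟨g, hgL⟩), fun ha => ?_⟩
    have := hmem.1 (hn.conj_mem ⟨_, hTL ha⟩ (hmem.2 ha) ⟨g, hgL⟩⁻¹)
    simpa [mul_assoc] using this
  · intro s hs hs1 c _ hcs a ha
    exact Subtype.ext ((mem_CT.1 (h.mem_CT_of_commute (hmem.1 hs) (fun e => hs1 (Subtype.ext e))
      (congrArg Subtype.val hcs.eq))) a (hmem.1 ha)).eq
  · intro p hp ho Q hQ a ha b hb
    exact Subtype.ext (h.ab p hp ho (Q.map L.subtype) (hQ.map _) a ⟨a, ha, rfl⟩ b ⟨b, hb, rfl⟩).eq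

omit h in
theorem mem_NH_subtype {L : Subgroup G} (hTL : (T : Subgroup G) ≤ L) {x : L} :
    x ∈ NH (T.subtype hTL) ↔ (x : G) ∈ NH T := by
  rw [Subgroup.mem_normalizer_iff, Subgroup.mem_normalizer_iff]
  refine ⟨fun hx a => ⟨fun ha => ?_, fun ha => ?_⟩, fun hx a => ?_⟩
  · exact Subgroup.mem_subgroupOf.1 ((hx ⟨a, hTL ha⟩).1 (Subgroup.mem_subgroupOf.2 ha))
  · have haL : a ∈ L := by
      have := mul_mem (mul_mem (inv_mem x.2) (hTL ha)) x.2
      simpa [mul_assoc] using this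
    exact Subgroup.mem_subgroupOf.1 ((hx ⟨a, haL⟩).2 (Subgroup.mem_subgroupOf.2 ha))
  · show a ∈ (T : Subgroup G).subgroupOf L ↔ x * a * x⁻¹ ∈ (T : Subgroup G).subgroupOf L
    rw [Subgroup.mem_subgroupOf, Subgroup.mem_subgroupOf]
    exact hx a

theorem isElementaryAbelian : Cfsg.IsElementaryAbelian 2 (T : Subgroup G) :=
  ⟨⟨⟨fun a b => Subtype.ext (h.comm a.2 b.2).eq⟩⟩, fun a ha => by rw [pow_two]; exact h.sq a ha⟩

theorem oddCore_le_CT : Cfsg.oddCore G ≤ CT T := by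
  haveI : Fact (Nat.Prime 2) := ⟨Nat.prime_two⟩
  haveI := normal_oddCore G
  obtain ⟨s, hs, hs1⟩ := h.exists_ne_one
  rw [CfsgLib.Comp.eq_iSup_centralizer_hyperplane (p := 2) h.isElementaryAbelian
    (fun e => hs1 (Subgroup.mem_bot.1 (e ▸ hs)))
    (fun hd => Nat.not_even_iff_odd.2 (odd_card_oddCore G) (even_iff_two_dvd.2 hd))
    (le_top.trans (Subgroup.normalizer_eq_top (Cfsg.oddCore G)).ge)]
  refine iSup_le fun B => ?_
  obtain ⟨B, hBT, hBi⟩ := B
  have hB : B ≠ ⊥ := by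
    rintro rfl
    rw [relIndex_bot_left] at hBi
    have := h.four
    omega
  obtain ⟨b, hb, hb1⟩ := CfsgLib.Comp.exists_mem_ne_one hB
  intro o ho
  exact h.mem_CT_of_commute (hBT hb) hb1
    ((Subgroup.mem_centralizer_iff.1 ho.2) b hb).symm

/-- An odd normal subgroup fixes every point. -/
theorem oddCore_le_twoStab {y : G ⧸ NH T} : Cfsg.oddCore G ≤ twoStab T y := by
  intro o ho
  obtain ⟨g, rfl⟩ := QuotientGroup.mk_surjective y
  refine mem_twoStab.2 ⟨smul_pt_iff.2 (CT_le_NH (h.oddCore_le_CT ho)), ?_⟩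
  rw [fix_coset_iff]
  refine CT_le_NH (h.oddCore_le_CT ?_)
  simpa using (normal_oddCore G).conj_mem o ho g⁻¹

theorem quotient {O : Subgroup G} [O.Normal] (hO : Odd (Nat.card O)) (hOc : O ≤ CT T)
    [Fact (Nat.Prime 2)] :
    Ctx (T.mapSurjective (f := QuotientGroup.mk' O) (QuotientGroup.mk'_surjective O)) := by
  set T' : Sylow 2 (G ⧸ O) := T.mapSurjective (f := QuotientGroup.mk' O)
    (QuotientGroup.mk'_surjective O) with hT'
  have hmem : ∀ x, x ∈ (T' : Subgroup (G ⧸ O)) ↔ ∃ a ∈ (T : Subgroup G), (a : G ⧸ O) = x :=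
    fun x => Iff.rfl
  have hinj : ∀ a ∈ (T : Subgroup G), ∀ b ∈ (T : Subgroup G), (a : G ⧸ O) = b → a = b := by
    intro a ha b hb e
    have hm := QuotientGroup.eq.1 e
    have hT := h.sq _ (mul_mem (inv_mem ha) hb)
    exact inv_mul_eq_one.1 (eq_one_of_sq hT (odd_orderOf_of_mem hO hm))
  have hcard : Nat.card (T' : Subgroup (G ⧸ O)) = Nat.card (T : Subgroup G) := by
    symm
    exact Nat.card_congr (Equiv.ofBijective (fun a => ⟨((a : G) : G ⧸ O), (hmem _).2 ⟨a, a.2, rfl⟩⟩)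
      ⟨fun a b e => Subtype.ext (hinj _ a.2 _ b.2 (congrArg Subtype.val e)), fun ⟨x, hx⟩ => by
        obtain ⟨a, ha, rfl⟩ := (hmem x).1 hx
        exact ⟨⟨a, ha⟩, rfl⟩⟩)
  refine ⟨?_, hcard ▸ h.four, fun hn => h.not_normal ⟨fun t ht g => ?_⟩,
    h.dich.quotient O hO, ?_, hcard ▸ h.prime, ?_⟩
  · intro x hx
    obtain ⟨a, ha, rfl⟩ := (hmem x).1 hx
    rw [← QuotientGroup.mk_mul, h.sq a ha]; rfl
  · obtain ⟨t', ht', he⟩ := (hmem _).1 (hn.conj_mem (t : G ⧸ O) ((hmem _).2 ⟨t, ht, rfl⟩) (g : G ⧸ O))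
    rw [← QuotientGroup.mk_inv, ← QuotientGroup.mk_mul, ← QuotientGroup.mk_mul] at he
    have ho := QuotientGroup.eq.1 he
    generalize hgo : t'⁻¹ * (g * t * g⁻¹) = o at ho
    have hc : Commute o t' := mem_CT.1 (hOc ho) t' ht'
    have h2 : o * o = 1 := by
      have e1 : g * t * g⁻¹ = t' * o := by rw [← hgo, mul_inv_cancel_left]
      have e2 : g * t * g⁻¹ * (g * t * g⁻¹) = 1 := by
        calc _ = g * (t * t) * g⁻¹ := by group
          _ = 1 := by rw [h.sq t ht, mul_one, mul_inv_cancel]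
      rw [e1] at e2
      calc o * o = (t' * t') * (o * o) := by rw [h.sq t' ht', one_mul]
        _ = t' * o * (t' * o) := by
          calc t' * t' * (o * o) = t' * (t' * o) * o := by group
            _ = t' * (o * t') * o := by rw [hc.eq]
            _ = _ := by group
        _ = 1 := e2
    rw [eq_one_of_sq h2 (odd_orderOf_of_mem hO ho), inv_mul_eq_one] at hgo
    rw [← hgo]; exact ht'
  · intro x hx hx1 c _ hcs y hy
    obtain ⟨a, ha, rfl⟩ := (hmem x).1 hx
    obtain ⟨b, hb, rfl⟩ := (hmem y).1 hy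
    obtain ⟨w, rfl⟩ := QuotientGroup.mk_surjective c
    have ha1 : a ≠ 1 := fun e => hx1 (by rw [e]; rfl)
    have hao := h.invol ha ha1
    have hw : w⁻¹ * (a * w * a) ∈ O := by
      rw [← QuotientGroup.eq_one_iff]
      simp only [QuotientGroup.mk_mul, QuotientGroup.mk_inv]
      rw [← hcs.eq, mul_assoc (w : G ⧸ O) (a : G ⧸ O), ← QuotientGroup.mk_mul O a a, h.sq a ha]
      simp
    obtain ⟨z, hz, hwz⟩ := exists_commute_lift hO hao hw
    have := ((mem_CT.1 (h.mem_CT_of_commute ha ha1 hwz.symm)) b hb).map (QuotientGroup.mk' O)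
    simp only [QuotientGroup.mk'_apply, QuotientGroup.mk_mul, (QuotientGroup.eq_one_iff z).2 hz,
      mul_one] at this
    exact this
  · intro p hp ho Q hQ a ha b hb
    haveI := Fact.mk hp
    obtain ⟨S⟩ := (inferInstance : Nonempty (Sylow p G))
    set S' : Sylow p (G ⧸ O) := S.mapSurjective (f := QuotientGroup.mk' O)
      (QuotientGroup.mk'_surjective O)
    obtain ⟨g, hg⟩ := exists_conj_mem_sylow S' hQ
    obtain ⟨a', ha', hea⟩ := hg a ha
    obtain ⟨b', hb', heb⟩ := hg b hb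
    have hc := (h.ab p hp ho S S.2 a' ha' b' hb').map (QuotientGroup.mk' O)
    rw [hea, heb] at hc
    exact (Commute.conj_iff g).1 hc

/-- When `G/O(G)` is `SL(2, 2ⁿ)`: odd elements of `C(T)` and odd elements with centralised primes
lie in `O(G)`. -/
theorem mem_oddCore_of_CT (hQ : IsSLTwo (G ⧸ Cfsg.oddCore G) ) [(Cfsg.oddCore G).Normal]
    {k : G} (hk : k ∈ CT T) (hko : Odd (orderOf k)) : k ∈ Cfsg.oddCore G := by
  obtain ⟨s, hs, hs1⟩ := h.exists_ne_one
  have hs2 : orderOf (s : G ⧸ Cfsg.oddCore G) = 2 := by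
    refine invol_of_mul_self (by rw [← QuotientGroup.mk_mul, h.sq s hs]; rfl) fun e => hs1 ?_
    exact eq_one_of_sq (h.sq s hs)
      (odd_orderOf_of_mem (odd_card_oddCore G) ((QuotientGroup.eq_one_iff s).1 e))
  rw [← QuotientGroup.eq_one_iff]
  refine eq_one_of_sq (hQ.sq_of_commute hs2 ((mem_CT.1 hk s hs).map (QuotientGroup.mk' _))) ?_
  exact Odd.of_dvd_nat hko (orderOf_mk_dvd k)

theorem mem_oddCore_of_cprime (hQ : IsSLTwo (G ⧸ Cfsg.oddCore G)) [(Cfsg.oddCore G).Normal]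
    {p : ℕ} (hp : p.Prime) (ho : Odd p) {g : G} {k : ℕ} (hg : orderOf g = p ^ k)
    {v y : G} (hv : orderOf v = 2) (hy : orderOf y = p) (hc : Commute v y) :
    g ∈ Cfsg.oddCore G := by
  rw [← QuotientGroup.eq_one_iff]
  by_contra hne
  obtain ⟨j, hj, hjg⟩ := hQ.exists_inverting (g : G ⧸ Cfsg.oddCore G)
  obtain ⟨j', hj', rfl⟩ := exists_invol_lift (odd_card_oddCore G) hj
  have hdvd : p ∣ orderOf (g : G ⧸ Cfsg.oddCore G) := by
    obtain ⟨i, -, hi⟩ := (Nat.dvd_prime_pow hp).1 (hg ▸ orderOf_mk_dvd (N := Cfsg.oddCore G) g)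
    rcases i with _ | i
    · exact absurd (orderOf_eq_one_iff.1 (by rw [hi, pow_zero])) hne
    · rw [hi]; exact dvd_pow_self p (Nat.succ_ne_zero i)
  obtain ⟨x, hx, hxi⟩ := exists_inverted_prime hjg hdvd
  obtain ⟨x', hx', hxi'⟩ := exists_inverted_lift hj' hxi ho hx
  exact h.dich.not_both hp ho hx' hy.symm.dvd hj' hv hxi' hc

end Ctx

/-- In a nilpotent group with abelian Sylow subgroups all elements commute. -/
theorem comm_of_nilpotent {K : Type*} [Group K] [Finite K] [Group.IsNilpotent K]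
    (hab : ∀ p : ℕ, p.Prime → ∀ P : Sylow p K, ∀ a b : P, a * b = b * a) (a b : K) : a * b = b * a := by
  have hn : ∀ {p : ℕ} [Fact p.Prime] (P : Sylow p K), P.Normal := fun {p} _ P =>
    Sylow.normal_of_normalizerCondition Group.normalizerCondition_of_isNilpotent P
  let e := Sylow.directProductOfNormal hn
  obtain ⟨a, rfl⟩ := e.surjective a
  obtain ⟨b, rfl⟩ := e.surjective b
  rw [← map_mul, ← map_mul]
  congr 1
  funext p P
  exact hab p (Nat.prime_of_mem_primeFactors p.2) P _ _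

/-- Conjugation fusion and transfer: no group of odd order fixes two points and centralises `T`. -/
theorem Ctx.twoStab_CT_trivial (h : Ctx T)
    (IH : ∀ (H : Type u) [Group H] [Finite H] (S : Sylow 2 H), Nat.card H < Nat.card G → Ctx S →
      Cfsg.oddCore H = ⊥ → IsSLTwo H)
    (hO : Cfsg.oddCore G = ⊥) {y : G ⧸ NH T} (hy : y ≠ pt T) :
    twoStab T y ⊓ CT T = ⊥ := by
  classical
  haveI : Fact (Nat.Prime 2) := ⟨Nat.prime_two⟩
  obtain ⟨w, hw, hwy⟩ := se_swap_exists h.stronglyEmbedded hy.symm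
  obtain ⟨e, heD, her, hei, heC, hcom, hgen⟩ := h.structure_twoStab hy hw hwy
  have hwM : w ∉ NH T := fun hm => hy (by rw [← hwy, smul_pt_iff.2 hm])
  obtain ⟨s, hs, hs1⟩ := h.exists_ne_one
  have hso := h.invol hs hs1
  -- the facts for a proper subgroup containing `T` and `w`
  have hsub : ∀ L : Subgroup G, L ≠ ⊤ → (hTL : (T : Subgroup G) ≤ L) → w ∈ L →
      Ctx (T.subtype hTL) ∧ IsSLTwo (L ⧸ Cfsg.oddCore L) ∧
        ∀ o ∈ (Cfsg.oddCore L).map L.subtype, o ∈ twoStab T y ⊓ CT T := by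
    intro L hL hTL hwL
    have hC := h.subgroup hTL hwL hwM
    haveI := normal_oddCore L
    refine ⟨hC, ?_, ?_⟩
    · refine IH (L ⧸ Cfsg.oddCore L) _ ?_ (hC.quotient (odd_card_oddCore L) hC.oddCore_le_CT)
        CfsgLib.Fusion.oddCore_quotient_oddCore
      refine lt_of_le_of_lt (Nat.card_le_card_of_surjective _ (QuotientGroup.mk'_surjective _)) ?_
      exact lt_of_le_of_ne (Subgroup.card_le_card_group L) fun e => hL ((Subgroup.card_eq_iff_eq_top L).1 e)
    · rintro _ ⟨o, ho, rfl⟩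
      have hc : (o : G) ∈ CT T := mem_CT.2 fun a ha => congrArg Subtype.val
        ((mem_CT.1 (hC.oddCore_le_CT ho)) ⟨a, hTL ha⟩ (Subgroup.mem_subgroupOf.2 ha)).eq
      have h2 : w * (o : G) * w ∈ NH T := by
        have h3 := (normal_oddCore L).conj_mem o ho ⟨w, hwL⟩
        have h4 := CT_le_NH (hC.oddCore_le_CT h3)
        rw [mem_NH_subtype] at h4
        simpa [invol_inv hw] using h4
      refine ⟨mem_twoStab.2 ⟨smul_pt_iff.2 (CT_le_NH hc), ?_⟩, hc⟩
      show (o : G) • y = y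
      have h5 := smul_pt_iff.2 h2
      rw [mul_smul, mul_smul, hwy] at h5
      calc (o : G) • y = w • w • (o : G) • y := by rw [← mul_smul, invol_mul_self hw, one_smul]
        _ = y := by rw [h5, hwy]
  by_contra hA
  set A := twoStab T y ⊓ CT T with hAdef
  have hAodd : Odd (Nat.card A) :=
    Odd.of_dvd_nat (h.odd_twoStab hy) (Subgroup.card_dvd_of_le inf_le_left)
  haveI : Group.IsSolvable A := CfsgLib.FT.odd_order_solvable hAodd
  haveI : Nontrivial A := (Subgroup.nontrivial_iff_ne_bot A).2 hA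
  have hlt := IsSolvable.commutator_lt_top_of_nontrivial A
  obtain ⟨p, hp, hpd⟩ := Nat.exists_prime_and_dvd
    (show (commutator A).index ≠ 1 from fun e => hlt.ne (Subgroup.index_eq_one.1 e))
  haveI := Fact.mk hp
  have hpA : p ∣ Nat.card A := hpd.trans (Subgroup.index_dvd_card _)
  have hpo : Odd p := Odd.of_dvd_nat hAodd hpA
  obtain ⟨R₀⟩ := (inferInstance : Nonempty (Sylow p A))
  have hR₀ : ¬ (R₀ : Subgroup A) ≤ commutator A := fun hle =>
    R₀.not_dvd_index (hpd.trans (Subgroup.index_dvd_of_le hle))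
  obtain ⟨r₀, hr₀, hr₀'⟩ := SetLike.not_le_iff_exists.1 hR₀
  obtain ⟨R, hR⟩ := (R₀.isPGroup'.map A.subtype).exists_le_sylow
  have hr₀1 : (r₀ : G) ≠ 1 := fun e => hr₀' (by
    rw [show r₀ = 1 from Subtype.ext e]; exact one_mem _)
  have hr₀R : (r₀ : G) ∈ (R : Subgroup G) := hR ⟨r₀, hr₀, rfl⟩
  -- an element of order `p` of `R₀`
  obtain ⟨a₀, ha₀, ha₀A, ha₀R⟩ : ∃ a₀ : G, orderOf a₀ = p ∧ a₀ ∈ A ∧ a₀ ∈ (R : Subgroup G) := by
    obtain ⟨k, hk⟩ := IsPGroup.iff_orderOf.1 R.2 ⟨_, hr₀R⟩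
    rw [← Subgroup.orderOf_coe] at hk
    have hk0 : k ≠ 0 := fun e => hr₀1 (orderOf_eq_one_iff.1 (by
      have : orderOf (r₀ : G) = p ^ k := hk
      rw [this, e, pow_zero]))
    exact ⟨_, orderOf_pow_orderOf_div (orderOf_pos (r₀ : G)).ne' (hk ▸ dvd_pow_self p hk0),
      pow_mem r₀.2 _, pow_mem hr₀R _⟩
  have ha₀w : Commute w a₀ := (hcom a₀ ha₀A.1 ha₀A.2).2
  have hsa₀ : Commute s a₀ := ((mem_CT.1 ha₀A.2) s hs).symm
  have hL1 : Subgroup.centralizer ({a₀} : Set G) ≠ ⊤ := by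
    intro e
    have hc : ∀ g, g * a₀ = a₀ * g := fun g => Subgroup.mem_centralizer_singleton_iff.1 (e ▸ mem_top g)
    have hn : (Subgroup.zpowers a₀).Normal := ⟨fun x hx g => by
      obtain ⟨i, rfl⟩ := hx
      rw [conj_zpow_eq, hc g, mul_inv_cancel_right]
      exact ⟨i, rfl⟩⟩
    have hle := le_oddCore hn (by rw [Nat.card_zpowers, ha₀]; exact hpo)
    rw [hO] at hle
    have := Subgroup.mem_bot.1 (hle (Subgroup.mem_zpowers a₀))
    rw [this, orderOf_one] at ha₀
    exact hp.one_lt.ne ha₀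
  have hab : ∀ a ∈ (R : Subgroup G), ∀ b ∈ (R : Subgroup G), Commute a b := h.ab p hp hpo R R.2
  -- `R ≤ A`
  have hRA : (R : Subgroup G) ≤ A := by
    set L := Subgroup.centralizer ({a₀} : Set G)
    have hTL : (T : Subgroup G) ≤ L := fun t ht =>
      Subgroup.mem_centralizer_singleton_iff.2 ((mem_CT.1 ha₀A.2) t ht).symm.eq
    have hwL : w ∈ L := Subgroup.mem_centralizer_singleton_iff.2 ha₀w.eq
    obtain ⟨hC, hQ, hOA⟩ := hsub L hL1 hTL hwL
    intro g hg
    have hgL : g ∈ L := Subgroup.mem_centralizer_singleton_iff.2 (hab g hg a₀ ha₀R).eq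
    haveI := normal_oddCore L
    obtain ⟨k, hk⟩ := IsPGroup.iff_orderOf.1 R.2 ⟨g, hg⟩
    refine hOA g ⟨⟨g, hgL⟩, hC.mem_oddCore_of_cprime hQ hp hpo (k := k) ?_ (v := ⟨s, hTL hs⟩)
      (y := ⟨a₀, Subgroup.mem_centralizer_singleton_iff.2 rfl⟩) ?_ ?_ (Subtype.ext hsa₀.eq), rfl⟩
    · rw [← Subgroup.orderOf_coe]
      rw [← Subgroup.orderOf_coe] at hk
      exact hk
    · rw [← Subgroup.orderOf_coe]; exact hso
    · rw [← Subgroup.orderOf_coe]; exact ha₀
  -- fusion in `R`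
  have hfus : ∀ n ∈ Subgroup.normalizer ((R : Subgroup G) : Set G),
      ∃ a ∈ A, a ∈ Subgroup.normalizer ((R : Subgroup G) : Set G) ∧
        ∀ r ∈ (R : Subgroup G), n * r * n⁻¹ = a * r * a⁻¹ := by
    intro n hn
    set L := Subgroup.centralizer ((R : Subgroup G) : Set G) with hLdef
    have hmemL : ∀ x, x ∈ L ↔ ∀ r ∈ (R : Subgroup G), Commute x r := fun x => by
      rw [hLdef, mem_centralizer_iff]
      exact ⟨fun hx r hr => (hx r hr).symm, fun hx r hr => (hx r hr).symm⟩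
    have hTL : (T : Subgroup G) ≤ L := fun t ht => (hmemL t).2 fun r hr =>
      ((mem_CT.1 (hRA hr).2) t ht).symm
    have hwL : w ∈ L := (hmemL w).2 fun r hr => (hcom r (hRA hr).1 (hRA hr).2).2
    have heL : e ∈ L := (hmemL e).2 fun r hr => (hcom r (hRA hr).1 (hRA hr).2).1
    have hLne : L ≠ ⊤ := fun e' => hL1 (eq_top_iff.2 (e' ▸ fun x hx =>
      Subgroup.mem_centralizer_singleton_iff.2 ((hmemL x).1 hx a₀ ha₀R).eq))
    obtain ⟨hC, hQ, hOA⟩ := hsub L hLne hTL hwL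
    have hLn : ∀ m ∈ Subgroup.normalizer ((R : Subgroup G) : Set G), ∀ x ∈ L, m * x * m⁻¹ ∈ L := by
      intro m hm x hx
      refine (hmemL _).2 fun r hr => ?_
      have hr' : m⁻¹ * r * m ∈ (R : Subgroup G) := by
        have := (Subgroup.mem_normalizer_iff.1 (inv_mem hm) r).1 hr
        rwa [inv_inv] at this
      show m * x * m⁻¹ * r = r * (m * x * m⁻¹)
      calc m * x * m⁻¹ * r = m * (x * (m⁻¹ * r * m)) * m⁻¹ := by group
        _ = m * ((m⁻¹ * r * m) * x) * m⁻¹ := by rw [((hmemL x).1 hx _ hr').eq]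
        _ = _ := by group
    -- Frattini
    obtain ⟨c, hcL, hcm⟩ : ∃ c ∈ L, c⁻¹ * n ∈ NH T := by
      let f : L →* L :=
        { toFun := fun x => ⟨n * x * n⁻¹, hLn n hn x x.2⟩
          map_one' := Subtype.ext (by simp)
          map_mul' := fun a b => Subtype.ext (by simp [mul_assoc]) }
      set T' : Sylow 2 L := T.subtype hTL
      have hfi : Function.Injective f := fun a b e' =>
        Subtype.ext (by simpa [f] using congrArg Subtype.val e')
      obtain ⟨c, hc⟩ := exists_conj_mem_sylow T' (T'.2.map f)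
      refine ⟨(c⁻¹ : L), (c⁻¹ : L).2, ?_⟩
      simp only [Subgroup.coe_inv, inv_inv]
      have hfwd : ∀ a ∈ (T : Subgroup G), (c : G) * n * a * ((c : G) * n)⁻¹ ∈ (T : Subgroup G) := by
        intro a ha
        have := Subgroup.mem_subgroupOf.1 (hc _ ⟨⟨a, hTL ha⟩, Subgroup.mem_subgroupOf.2 ha, rfl⟩)
        simpa [f, mul_assoc] using this
      rw [Subgroup.mem_normalizer_iff]
      refine fun a => ⟨hfwd a, fun ha => ?_⟩
      let g : ↥(T : Subgroup G) → ↥(T : Subgroup G) := fun b => ⟨_, hfwd b b.2⟩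
      have hg : Function.Injective g := fun b b' e' => Subtype.ext (by
        simpa [g] using congrArg Subtype.val e')
      obtain ⟨b, hb⟩ := Finite.injective_iff_surjective.1 hg ⟨_, ha⟩
      have := congrArg Subtype.val hb
      have hba : (b : G) = a := by simpa [g] using this
      rw [← hba]; exact b.2
    set m := c⁻¹ * n with hmdef
    have hcN : c ∈ Subgroup.normalizer ((R : Subgroup G) : Set G) :=
      Subgroup.centralizer_le_normalizer _ hcL
    have hmN : m ∈ Subgroup.normalizer ((R : Subgroup G) : Set G) := mul_mem (inv_mem hcN) hn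
    obtain ⟨d, hd, hdc⟩ := h.NH_eq hy hcm
    obtain ⟨i, hi⟩ := hgen d hd
    have hm' : (e ^ i)⁻¹ * m ∈ CT T := by
      have := mul_mem hi hdc
      simpa [mul_assoc] using this
    obtain ⟨K, hKo, hKC, hKmem, hKdec⟩ := h.exists_K
    obtain ⟨t, ht, htk⟩ := hKdec _ hm'
    set k := t⁻¹ * ((e ^ i)⁻¹ * m) with hkdef
    have hmk : m = e ^ i * t * k := by rw [hkdef]; group
    have hkN : k ∈ Subgroup.normalizer ((R : Subgroup G) : Set G) :=
      mul_mem (inv_mem (Subgroup.centralizer_le_normalizer _ (hTL ht)))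
        (mul_mem (inv_mem (Subgroup.centralizer_le_normalizer _ (pow_mem heL i))) hmN)
    have hkC : k ∈ CT T := hKC htk
    have hko : Odd (orderOf k) := odd_orderOf_of_mem hKo htk
    have hky : k • y = (k * w * k⁻¹) • pt T := by
      rw [mul_smul (k * w), smul_pt_iff.2 (inv_mem (CT_le_NH hkC)), mul_smul k w, hwy]
    set g := k * w * k⁻¹
    have hgL : g ∈ L := hLn k hkN w hwL
    have hgM : g ∉ NH T := fun hg => hy (MulAction.injective k (by
      show k • y = k • pt T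
      rw [hky, smul_pt_iff.2 hg, smul_pt_iff.2 (CT_le_NH hkC)]))
    have hgM' : (⟨g, hgL⟩ : L) ∉ NH (T.subtype hTL) := fun hg => hgM ((mem_NH_subtype hTL).1 hg)
    have hwM' : (⟨w, hwL⟩ : L) ∉ NH (T.subtype hTL) := fun hg => hwM ((mem_NH_subtype hTL).1 hg)
    obtain ⟨m₂, hm₂, hm₂g⟩ := hC.transitive
      (y := ((⟨w, hwL⟩ : L) : L ⧸ NH (T.subtype hTL))) (z := ((⟨g, hgL⟩ : L) : L ⧸ NH (T.subtype hTL)))
      (fun e' => hwM' (by rwa [← smul_pt, smul_pt_iff] at e'))
      (fun e' => hgM' (by rwa [← smul_pt, smul_pt_iff] at e'))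
    rw [MulAction.Quotient.smul_coe, smul_eq_mul, QuotientGroup.eq, mem_NH_subtype] at hm₂g
    have hm₂y : (m₂ : G) • k • y = y := by
      have h5 := smul_pt_iff.2 hm₂g
      simp only [Subgroup.coe_mul, Subgroup.coe_inv] at h5
      rw [mul_smul, inv_smul_eq_iff, hwy] at h5
      · rw [hky, ← mul_smul]
        exact (by rw [h5] : ((m₂ : G) * g) • pt T = y)
    have hm₂M : (m₂ : G) ∈ NH T := (mem_NH_subtype hTL).1 hm₂
    obtain ⟨d₂, hd₂, hd₂c⟩ := h.NH_eq hy hm₂M
    obtain ⟨i₂, hi₂⟩ := hgen d₂ hd₂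
    have hm₂' : (e ^ i₂)⁻¹ * (m₂ : G) ∈ CT T := by
      have := mul_mem hi₂ hd₂c
      simpa [mul_assoc] using this
    obtain ⟨t₂, ht₂, htk₂⟩ := hKdec _ hm₂'
    set k₂ := t₂⁻¹ * ((e ^ i₂)⁻¹ * (m₂ : G)) with hk₂def
    have hk₂L : k₂ ∈ L := mul_mem (inv_mem (hTL ht₂)) (mul_mem (inv_mem (pow_mem heL i₂)) m₂.2)
    have hk₂A : k₂ ∈ A := by
      haveI := normal_oddCore L
      refine hOA k₂ ⟨⟨k₂, hk₂L⟩, hC.mem_oddCore_of_CT hQ ?_ ?_, rfl⟩
      · exact mem_CT.2 fun a ha => Subtype.ext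
          ((mem_CT.1 (hKC htk₂)) a (Subgroup.mem_subgroupOf.1 ha)).eq
      · rw [← Subgroup.orderOf_coe]; exact odd_orderOf_of_mem hKo htk₂
    have hm₂k : (m₂ : G) = e ^ i₂ * t₂ * k₂ := by rw [hk₂def]; group
    have hey : (e ^ i₂)⁻¹ • y = y := (mem_twoStab.1 (inv_mem (pow_mem heD i₂))).2
    have hk₂y : k₂⁻¹ • y = y := (mem_twoStab.1 (inv_mem hk₂A.1)).2
    have hky' : k • y = t₂⁻¹ • y := by
      have h6 : k • y = (m₂ : G)⁻¹ • y := eq_inv_smul_iff.2 hm₂y
      have e7 : (m₂ : G)⁻¹ = t₂⁻¹ * k₂⁻¹ * (e ^ i₂)⁻¹ := by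
        rw [← ((mem_CT.1 (hKC htk₂)) t₂ ht₂).inv_left.inv_right.eq, hm₂k]; group
      rw [h6, e7, mul_smul (t₂⁻¹ * k₂⁻¹), hey, mul_smul t₂⁻¹, hk₂y]
    have htk_D : t₂ * k ∈ twoStab T y := mem_twoStab.2
      ⟨smul_pt_iff.2 (mul_mem (CAHyp.T_le_NH ht₂) (CT_le_NH hkC)),
        by rw [mul_smul, hky', smul_inv_smul]⟩
    have ht₂1 : t₂ = 1 := by
      have hc : Commute t₂ k := ((mem_CT.1 hkC) t₂ ht₂).symm
      have hodd := h.odd_orderOf hy htk_D
      by_contra hne
      have h2 : orderOf t₂ = 2 := h.invol ht₂ hne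
      have : orderOf (t₂ * k) = 2 * orderOf k := by
        rw [← h2]; exact hc.orderOf_mul_eq_mul_orderOf_of_coprime (h2 ▸ Nat.coprime_two_left.2 hko)
      rw [this] at hodd
      exact Nat.not_even_iff_odd.2 hodd (even_two_mul _)
    rw [ht₂1, one_mul] at htk_D
    refine ⟨k, ⟨htk_D, hkC⟩, hkN, fun r hr => ?_⟩
    have hkr : k * r * k⁻¹ ∈ (R : Subgroup G) := (Subgroup.mem_normalizer_iff.1 hkN r).1 hr
    have hfix : ∀ x ∈ L, ∀ r ∈ (R : Subgroup G), x * r * x⁻¹ = r := fun x hx r hr => by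
      rw [((hmemL x).1 hx r hr).eq, mul_inv_cancel_right]
    have hn' : n = c * e ^ i * t * k := by
      rw [show n = c * m by rw [hmdef, mul_inv_cancel_left], hmk]; group
    calc n * r * n⁻¹ = (c * e ^ i * t) * (k * r * k⁻¹) * (c * e ^ i * t)⁻¹ := by rw [hn']; group
      _ = _ := hfix _ (mul_mem (mul_mem hcL (pow_mem heL i)) (hTL ht)) _ hkr
  -- an element of `R` fixed by `N(R)`
  set NA := A ⊓ Subgroup.normalizer ((R : Subgroup G) : Set G) with hNA
  have hRNA : (R : Subgroup G) ≤ NA := le_inf hRA Subgroup.le_normalizer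
  letI : CommGroup (R : Subgroup G) :=
    { (inferInstance : Group (R : Subgroup G)) with
      mul_comm := fun a b => Subtype.ext (hab a a.2 b b.2).eq }
  let cj : NA → ((R : Subgroup G) →* (R : Subgroup G)) := fun a =>
    { toFun := fun r => ⟨(a : G) * r * (a : G)⁻¹, (Subgroup.mem_normalizer_iff.1 a.2.2 r).1 r.2⟩
      map_one' := Subtype.ext (by simp)
      map_mul' := fun r r' => Subtype.ext (by simp [mul_assoc]) }
  let r₁ : (R : Subgroup G) := ⟨r₀, hr₀R⟩
  let φ : NA ⧸ (R : Subgroup G).subgroupOf NA → (R : Subgroup G) :=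
    Quotient.lift (fun a => cj a r₁) (by
      intro a b hab'
      have hm : (a : G)⁻¹ * (b : G) ∈ (R : Subgroup G) :=
        Subgroup.mem_subgroupOf.1 (QuotientGroup.leftRel_apply.1 hab')
      refine Subtype.ext ?_
      show (a : G) * (r₀ : G) * (a : G)⁻¹ = (b : G) * (r₀ : G) * (b : G)⁻¹
      have := hab _ hm _ hr₀R
      calc (a : G) * (r₀ : G) * (a : G)⁻¹
          = (a : G) * ((r₀ : G) * ((a : G)⁻¹ * b)) * ((b : G))⁻¹ := by group
        _ = (a : G) * (((a : G)⁻¹ * b) * (r₀ : G)) * ((b : G))⁻¹ := by rw [← this.eq]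
        _ = _ := by group)
  haveI := Fintype.ofFinite (NA ⧸ (R : Subgroup G).subgroupOf NA)
  set π : (R : Subgroup G) := ∏ q, φ q with hπ
  have hπfix : ∀ a : NA, cj a π = π := by
    intro a
    rw [hπ, map_prod]
    refine Fintype.prod_equiv (MulAction.toPerm a) _ _ fun q => ?_
    obtain ⟨b, rfl⟩ := QuotientGroup.mk_surjective q
    refine Subtype.ext ?_
    show (a : G) * ((b : G) * (r₀ : G) * (b : G)⁻¹) * (a : G)⁻¹ =
      ((a * b : NA) : G) * (r₀ : G) * ((a * b : NA) : G)⁻¹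
    simp [mul_assoc]
  have hπne : π ≠ 1 := by
    intro hπ1
    let ψ : (R : Subgroup G) →* Abelianization A :=
      { toFun := fun r => Abelianization.of (⟨r, hRA r.2⟩ : A)
        map_one' := map_one _
        map_mul' := fun r r' => by rw [← map_mul]; rfl }
    have hψ : ∀ q, ψ (φ q) = ψ r₁ := by
      intro q
      obtain ⟨b, rfl⟩ := QuotientGroup.mk_surjective q
      show Abelianization.of (⟨(b : G) * (r₀ : G) * (b : G)⁻¹, _⟩ : A) = _
      have : (⟨(b : G) * (r₀ : G) * (b : G)⁻¹, hRA ((Subgroup.mem_normalizer_iff.1 b.2.2 _).1 hr₀R)⟩ : A)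
          = (⟨b, b.2.1⟩ : A) * r₀ * (⟨b, b.2.1⟩ : A)⁻¹ := Subtype.ext (by simp)
      rw [this, map_mul, map_mul, map_inv, mul_inv_cancel_comm]
      rfl
    have h1 := congrArg ψ hπ1
    rw [hπ, map_prod, Finset.prod_congr rfl fun q _ => hψ q, Finset.prod_const, Finset.card_univ,
      map_one, ← Nat.card_eq_fintype_card] at h1
    have hcop : Nat.Coprime (Nat.card (NA ⧸ (R : Subgroup G).subgroupOf NA)) p := by
      refine ((Nat.Prime.coprime_iff_not_dvd hp).2 fun hd => ?_).symm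
      refine R.not_dvd_index (hd.trans ?_)
      exact Dvd.intro _ (Subgroup.relIndex_mul_index hRNA)
    have h2 : orderOf (Abelianization.of r₀) ∣ Nat.card (NA ⧸ (R : Subgroup G).subgroupOf NA) :=
      orderOf_dvd_of_pow_eq_one h1
    obtain ⟨j, hj⟩ := IsPGroup.iff_orderOf.1 R₀.2 ⟨r₀, hr₀⟩
    rw [← Subgroup.orderOf_coe] at hj
    have h3 : orderOf (Abelianization.of r₀) ∣ p ^ j := hj ▸ orderOf_map_dvd Abelianization.of r₀
    have h4 := orderOf_eq_one_iff.1 (Nat.eq_one_of_dvd_coprimes (hcop.pow_right j) h2 h3)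
    exact hr₀' ((QuotientGroup.eq_one_iff _).1 h4)
  -- transfer
  set c : G := (π : G) with hc
  have key : ∀ (k : ℕ) (g₀ : G), g₀⁻¹ * c ^ k * g₀ ∈ (R : Subgroup G) →
      g₀⁻¹ * c ^ k * g₀ = c ^ k := by
    intro k g₀ hmem
    haveI : IsMulCommutative (R : Subgroup G) := ⟨⟨fun a b => mul_comm a b⟩⟩
    obtain ⟨n, hn, hn'⟩ := R.conj_eq_normalizer_conj_of_mem (c ^ k) g₀ (pow_mem π.2 k) hmem
    rw [hn']
    obtain ⟨a, haA, haN, ha⟩ := hfus n⁻¹ (inv_mem hn)
    have h1 := ha (c ^ k) (pow_mem π.2 k)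
    rw [inv_inv] at h1
    have h2 := congrArg Subtype.val (map_pow (cj ⟨a, haA, haN⟩) π k)
    rw [hπfix] at h2
    simp only [SubgroupClass.coe_pow] at h2
    rw [h1]
    have h3 : a * c * a⁻¹ = c := congrArg Subtype.val (hπfix ⟨a, haA, haN⟩)
    rw [← conj_pow, h3]
  set V := MonoidHom.transfer (MonoidHom.id (R : Subgroup G)) with hV
  have hVc : V c ≠ 1 := by
    rw [hV, MonoidHom.transfer_eq_pow _ c key, MonoidHom.id_apply]
    intro e1
    have e2 : c ^ (R : Subgroup G).index = 1 := congrArg Subtype.val e1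
    have e3 : orderOf π ∣ (R : Subgroup G).index := by
      rw [← Subgroup.orderOf_coe]; exact orderOf_dvd_of_pow_eq_one e2
    obtain ⟨j, hj⟩ := IsPGroup.iff_orderOf.1 R.2 π
    exact hπne (orderOf_eq_one_iff.1 (Nat.eq_one_of_dvd_coprimes
      (((Nat.Prime.coprime_iff_not_dvd hp).2 R.not_dvd_index).symm.pow_right j) e3 hj.dvd))
  set G₁ := V.ker with hG₁
  have hinv : ∀ {i : G}, orderOf i = 2 → i ∈ G₁ := by
    intro i hi
    rw [hG₁, MonoidHom.mem_ker]
    obtain ⟨j, hj⟩ := IsPGroup.iff_orderOf.1 R.2 (V i)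
    refine orderOf_eq_one_iff.1 (Nat.eq_one_of_dvd_coprimes ?_
      ((orderOf_map_dvd V i).trans hi.dvd) hj.dvd)
    exact (Nat.coprime_two_left.2 hpo).pow_right j
  have hTG₁ : (T : Subgroup G) ≤ G₁ := fun t ht => by
    by_cases ht1 : t = 1
    · rw [ht1]; exact one_mem _
    · exact hinv (h.invol ht ht1)
  have hC₁ := h.subgroup hTG₁ (hinv hw) hwM
  have hO₁ : Cfsg.oddCore G₁ = ⊥ := by
    haveI : (Cfsg.oddCore G₁).Characteristic := CfsgLib.Solvable.pPrimeCore_characteristic 2 G₁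
    have hn : ((Cfsg.oddCore G₁).map G₁.subtype).Normal := inferInstance
    have hle := le_oddCore hn (by
      rw [card_map_of_injective G₁.subtype_injective]; exact odd_card_oddCore G₁)
    rw [hO, le_bot_iff, Subgroup.map_eq_bot_iff_of_injective _ G₁.subtype_injective] at hle
    exact hle
  have hSL : IsSLTwo G₁ := IH G₁ _ (lt_of_le_of_ne (Subgroup.card_le_card_group G₁) fun e' => by
    have := (Subgroup.card_eq_iff_eq_top G₁).1 e'
    exact hVc (MonoidHom.mem_ker.1 (by rw [← hG₁, this]; exact mem_top c))) hC₁ hO₁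
  obtain ⟨K, hKo, hKC, hKmem, hKdec⟩ := h.exists_K
  have heG₁ : e ∈ G₁ := by
    have h2 : e ^ 2 ∈ G₁ := by
      have e1 : e ^ 2 = (e * w * e⁻¹) * w⁻¹ := by
        have : w * e⁻¹ * w⁻¹ = e := by rw [← conj_inv, hei, inv_inv]
        calc e ^ 2 = e * e := pow_two e
          _ = e * (w * e⁻¹ * w⁻¹) := by rw [this]
          _ = _ := by group
      rw [e1]
      exact mul_mem (hinv (by rw [orderOf_conj_eq, hw])) (inv_mem (hinv hw))
    obtain ⟨j, hj⟩ := exists_pow_eq_self_of_coprime (Nat.coprime_two_left.2 (h.odd_orderOf hy heD))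
    rw [← hj]; exact pow_mem h2 j
  have hKA : K ≤ A := by
    intro k hk
    have hkC := hKC hk
    have hko := odd_orderOf_of_mem hKo hk
    have hek : e * k * e⁻¹ ∈ K := hKmem _ (CT_conj_mem heD.1 hkC) (by rwa [orderOf_conj_eq])
    have hcK : k * e * k⁻¹ * e⁻¹ ∈ K := by
      have := mul_mem hk (inv_mem hek)
      convert this using 1
      group
    have hcG₁ : k * e * k⁻¹ * e⁻¹ ∈ G₁ :=
      mul_mem ((MonoidHom.normal_ker V).conj_mem e heG₁ k) (inv_mem heG₁)
    have h2 := hSL.sq_of_commute (s := ⟨s, hTG₁ hs⟩) (c := ⟨_, hcG₁⟩)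
      (by rw [← Subgroup.orderOf_coe]; exact hso)
      (Subtype.ext ((mem_CT.1 (hKC hcK)) s hs).eq)
    have h3 := eq_one_of_sq (congrArg Subtype.val h2) (odd_orderOf_of_mem hKo hcK)
    exact ⟨h.mem_twoStab_of_commute hy hw hei heD her heC (show k * e = e * k by
      rwa [mul_inv_eq_one, mul_inv_eq_iff_eq_mul] at h3), hkC⟩
  have hKn : K.Normal := by
    refine ⟨fun k hk g => ?_⟩
    have hM : ∀ m ∈ NH T, ∀ k ∈ K, m * k * m⁻¹ ∈ K := fun m hm k hk =>
      hKmem _ (CT_conj_mem hm (hKC hk)) (by rw [orderOf_conj_eq]; exact odd_orderOf_of_mem hKo hk)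
    have hw' : ∀ k ∈ K, w * k * w⁻¹ = k := fun k hk => by
      rw [(hcom k (hKA hk).1 (hKA hk).2).2.eq, mul_inv_cancel_right]
    by_cases hg : g ∈ NH T
    · exact hM g hg k hk
    · obtain ⟨m, hm, hmg⟩ := h.transitive hy
        (z := (g : G ⧸ NH T)) (fun e' => hg (by rwa [← smul_pt, smul_pt_iff] at e'))
      have hx : w * m * g ∈ NH T := smul_pt_iff.1 (by
        rw [mul_smul, mul_smul, smul_pt, hmg, invol_smul_swap hw hwy])
      have e1 : g * k * g⁻¹ = m⁻¹ * (w * ((w * m * g) * k * (w * m * g)⁻¹) * w⁻¹) * (m⁻¹)⁻¹ := by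
        rw [invol_inv hw]
        calc g * k * g⁻¹ = m⁻¹ * ((w * w) * (m * g * k * g⁻¹ * m⁻¹) * (w * w)⁻¹) * m := by
              rw [invol_mul_self hw]; group
          _ = m⁻¹ * (w * ((w * m * g) * k * (g⁻¹ * m⁻¹ * w⁻¹)) * w⁻¹) * m := by group
          _ = _ := by rw [inv_inv, mul_inv_rev, mul_inv_rev, invol_inv hw, ← mul_assoc g⁻¹ m⁻¹ w]
      rw [e1, hw' _ (hM _ hx k hk)]
      exact hM _ (inv_mem hm) _ (hM _ hx k hk)
  have hK1 := le_oddCore hKn hKo
  rw [hO] at hK1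
  refine hA (le_bot_iff.1 fun a ha => hK1 (hKmem a ha.2 ?_))
  exact h.odd_orderOf hy ha.1

/-- The main theorem. -/
theorem isSLTwo_of_ctx : ∀ (n : ℕ) (G : Type u) [Group G] [Finite G] (T : Sylow 2 G),
    Nat.card G = n → Ctx T → Cfsg.oddCore G = ⊥ → IsSLTwo G := by
  intro n
  induction n using Nat.strong_induction_on with
  | _ n ih =>
    intro G _ _ T hn h hO
    haveI : Fact (Nat.Prime 2) := ⟨Nat.prime_two⟩
    obtain ⟨y, hy⟩ := h.exists_ne_pt
    obtain ⟨w, hw, hwy⟩ := se_swap_exists h.stronglyEmbedded hy.symm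
    obtain ⟨e, heD, her, hei, heC, hcom, hgen⟩ := h.structure_twoStab hy hw hwy
    have hA := h.twoStab_CT_trivial (fun H _ _ S hlt hC hO' => ih _ (hn ▸ hlt) H S rfl hC hO') hO hy
    obtain ⟨K, hKo, hKC, hKmem, hKdec⟩ := h.exists_K
    -- `e` acts fixed-point-freely on `K`
    have hconj : ∀ k ∈ K, ∀ m ∈ NH T, m * k * m⁻¹ ∈ K := fun k hk m hm =>
      hKmem _ (CT_conj_mem hm (hKC hk)) (by rw [orderOf_conj_eq]; exact odd_orderOf_of_mem hKo hk)
    let φ : MulAut K :=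
      { toFun := fun k => ⟨e * k * e⁻¹, hconj k k.2 e heD.1⟩
        invFun := fun k => ⟨e⁻¹ * k * e, by simpa using hconj k k.2 e⁻¹ (inv_mem heD.1)⟩
        left_inv := fun k => Subtype.ext (by simp [mul_assoc])
        right_inv := fun k => Subtype.ext (by simp [mul_assoc])
        map_mul' := fun a b => Subtype.ext (by simp [mul_assoc]) }
    have hφpow : ∀ (j : ℕ) (k : K), ((φ ^ j) k : G) = e ^ j * k * (e ^ j)⁻¹ := by
      intro j
      induction j with
      | zero => intro k; simp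
      | succ j ihj =>
        intro k
        rw [pow_succ', MulAut.mul_apply]
        show e * ((φ ^ j) k : G) * e⁻¹ = _
        rw [ihj, pow_succ']
        group
    have hφr : φ ^ (Nat.card (T : Subgroup G) - 1) = 1 := by
      refine MulEquiv.ext fun k => Subtype.ext ?_
      rw [hφpow, ← her, pow_orderOf_eq_one]
      simp
    have hfpf : ∀ k, φ k = k → k = 1 := by
      intro k hk
      have hc : Commute (k : G) e := (mul_inv_eq_iff_eq_mul.1 (congrArg Subtype.val hk)).symm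
      have := h.mem_twoStab_of_commute hy hw hei heD her heC hc
      exact Subtype.ext (Subgroup.mem_bot.1 (hA ▸ ⟨this, hKC k.2⟩))
    haveI := CfsgLib.Complement.isNilpotent_of_fpf K φ _ h.prime hφr hfpf
    have hKc : ∀ a b : K, a * b = b * a := comm_of_nilpotent fun p hp P a b => by
      by_cases hpd : p ∣ Nat.card K
      · exact Subtype.ext (Subtype.ext (h.ab p hp (Odd.of_dvd_nat hKo hpd)
          ((P : Subgroup K).map K.subtype) (P.2.map _) _ ⟨_, a.2, rfl⟩ _ ⟨_, b.2, rfl⟩).eq)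
      · haveI := Fact.mk hp
        have h1 : (P : Subgroup K) = ⊥ := by
          rw [← Subgroup.card_eq_one, P.card_eq_multiplicity,
            Nat.factorization_eq_zero_of_not_dvd hpd, pow_zero]
        have ha : a = 1 := Subtype.ext (Subgroup.mem_bot.1 (h1 ▸ a.2))
        rw [ha, one_mul, mul_one]
    have hCT : ∀ a ∈ CT T, ∀ b ∈ CT T, Commute a b := by
      intro a ha b hb
      obtain ⟨t, ht, hta⟩ := hKdec a ha
      obtain ⟨t', ht', htb⟩ := hKdec b hb
      rw [show a = t * (t⁻¹ * a) by group, show b = t' * (t'⁻¹ * b) by group]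
      exact Commute.mul_left
        ((h.comm ht ht').mul_right ((mem_CT.1 (hKC htb)) t ht).symm)
        (((mem_CT.1 (hKC hta)) t' ht').mul_right (congrArg Subtype.val (hKc ⟨_, hta⟩ ⟨_, htb⟩)))
    obtain ⟨s, hs, hs1⟩ := h.exists_ne_one
    have heven : Even (Nat.card G) := by
      rw [even_iff_two_dvd, ← h.invol hs hs1]; exact orderOf_dvd_natCard s
    have hab : ∀ v : G, orderOf v = 2 →
        IsMulCommutative (Subgroup.centralizer ({v} : Set G)) := by
      intro v hv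
      obtain ⟨g, hg⟩ := exists_conj_invol_mem_sylow T hv
      refine ⟨⟨fun a b => Subtype.ext ?_⟩⟩
      have hmem : ∀ c : Subgroup.centralizer ({v} : Set G), g * c * g⁻¹ ∈ CT T := fun c =>
        h.mem_CT_of_commute hg (invol_ne_one (by rw [orderOf_conj_eq, hv]))
          ((Commute.conj_iff g).2 (Subgroup.mem_centralizer_singleton_iff.1 c.2))
      exact ((Commute.conj_iff g).1 (hCT _ (hmem a) _ (hmem b))).eq
    rcases Cfsg.Agent.S2202.result heven hab with hcyc | hnorm | ⟨F, iF, iFF, A₀, iA, iAf, h2, hodd, ⟨ε⟩⟩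
    · exfalso
      haveI := hcyc T
      obtain ⟨g, hg⟩ := IsCyclic.exists_ofOrder_eq_natCard (α := (T : Subgroup G))
      have hd : orderOf g ∣ 2 := orderOf_dvd_of_pow_eq_one (Subtype.ext (by
        rw [SubgroupClass.coe_pow, pow_two]; exact h.sq g g.2))
      have := Nat.le_of_dvd two_pos (hg ▸ hd)
      have := h.four
      omega
    · exact absurd (hnorm T) h.not_normal
    refine ⟨F, iF, iFF, h2, ?_⟩
    letI := iA; letI := iAf
    set N := ((MonoidHom.fst (Matrix.SpecialLinearGroup (Fin 2) F) A₀).comp ε.toMonoidHom).ker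
      with hN
    have hNodd : Odd (Nat.card N) := by
      refine Odd.of_dvd_nat hodd ?_
      refine Subgroup.card_dvd_of_injective
        (((MonoidHom.snd (Matrix.SpecialLinearGroup (Fin 2) F) A₀).comp ε.toMonoidHom).comp N.subtype) ?_
      intro a b hab'
      refine Subtype.ext (ε.injective (Prod.ext ?_ hab'))
      exact (MonoidHom.mem_ker.1 a.2).trans (MonoidHom.mem_ker.1 b.2).symm
    have hN1 := le_oddCore (MonoidHom.normal_ker _) hNodd
    rw [hO, le_bot_iff] at hN1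
    refine ⟨MulEquiv.ofBijective ((MonoidHom.fst _ A₀).comp ε.toMonoidHom)
      ⟨(MonoidHom.ker_eq_bot_iff _).1 hN1, fun x => ⟨ε.symm (x, 1), ?_⟩⟩⟩
    simp

end CfsgLib.EqOrder
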