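import Cfsg.Agent.Lib.Invol.BaerSuzuki
import Cfsg.Agent.Lib.Invol.Strong
import Cfsg.Agent.Lib.Solvable.PCore

/-!
# No prime is both inverted and centralised by involutions

`Dich G` says that no odd prime `p` has both an element of order `p` inverted by an involution and an
element of order `p` centralised by an involution.  It holds when subgroups of equal order are
conjugate, and it passes to subgroups and to quotients by normal subgroups of odd order.
-/

set_option autoImplicit false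
set_option linter.unusedSectionVars false
set_option linter.style.haveILetI false

namespace CfsgLib.EqOrder

open Subgroup CfsgLib.Invol

variable {G : Type*} [Group G]

/-- No odd prime is both inverted and centralised by involutions. -/
def Dich (G : Type*) [Group G] : Prop :=
  ∀ p : ℕ, p.Prime → Odd p → ∀ x y u v : G, orderOf x = p → orderOf y = p → orderOf u = 2 →
    orderOf v = 2 → u * x * u⁻¹ = x⁻¹ → Commute v y → False

variable [Finite G]

theorem exists_inverted_prime {u x : G} (hinv : u * x * u⁻¹ = x⁻¹) {p : ℕ} (hpd : p ∣ orderOf x) :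
    ∃ x' : G, orderOf x' = p ∧ u * x' * u⁻¹ = x'⁻¹ :=
  ⟨_, orderOf_pow_orderOf_div (orderOf_pos x).ne' hpd, conj_pow_inv hinv _⟩

theorem exists_commute_prime {v y : G} (hc : Commute v y) {p : ℕ} (hpd : p ∣ orderOf y) :
    ∃ y' : G, orderOf y' = p ∧ Commute v y' :=
  ⟨_, orderOf_pow_orderOf_div (orderOf_pos y).ne' hpd, hc.pow_right _⟩

theorem Dich.not_both (h : Dich G) {p : ℕ} (hp : p.Prime) (ho : Odd p) {x y u v : G}
    (hpx : p ∣ orderOf x) (hpy : p ∣ orderOf y) (hu : orderOf u = 2) (hv : orderOf v = 2)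
    (hinv : u * x * u⁻¹ = x⁻¹) (hc : Commute v y) : False := by
  obtain ⟨x', hx', hi⟩ := exists_inverted_prime hinv hpx
  obtain ⟨y', hy', hc'⟩ := exists_commute_prime hc hpy
  exact h p hp ho x' y' u v hx' hy' hu hv hi hc'

/-- An element of odd order which is inverted by one involution and commutes with another is
trivial. -/
theorem Dich.eq_one (h : Dich G) {x u v : G} (hx : Odd (orderOf x)) (hu : orderOf u = 2)
    (hv : orderOf v = 2) (hinv : u * x * u⁻¹ = x⁻¹) (hc : Commute v x) : x = 1 := by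
  by_contra h1
  obtain ⟨p, hp, hpd⟩ := Nat.exists_prime_and_dvd (fun e => h1 (orderOf_eq_one_iff.1 e))
  exact h.not_both hp (Odd.of_dvd_nat hx hpd) hpd hpd hu hv hinv hc

theorem inverted_quot {u : G} (hu : orderOf u = 2) (w : G) :
    u * (w⁻¹ * (u * w * u)) * u⁻¹ = (w⁻¹ * (u * w * u))⁻¹ := by
  have huu := invol_mul_self hu
  have e : u * u = 1 := huu
  rw [invol_inv hu]
  calc u * (w⁻¹ * (u * w * u)) * u = u * w⁻¹ * (u * w * (u * u)) := by group
    _ = (u * u * u) * w⁻¹ * (u * w) := by rw [e, one_mul, mul_one]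
    _ = _ := by
      rw [mul_inv_rev, mul_inv_rev, mul_inv_rev, invol_inv hu, inv_inv, e, one_mul]
      group

/-- An involution normalising a subgroup of odd order whose elements are all centralised by
involutions centralises it. -/
theorem Dich.commute_of_normalize (h : Dich G) {W : Subgroup G} (hW : Odd (Nat.card W))
    (hcw : ∀ p : ℕ, p.Prime → p ∣ Nat.card W → ∃ v y : G, orderOf v = 2 ∧ orderOf y = p ∧ Commute v y)
    {u : G} (hu : orderOf u = 2) (hun : ∀ w ∈ W, u * w * u ∈ W) {w : G} (hw : w ∈ W) :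
    Commute u w := by
  have ht : w⁻¹ * (u * w * u) ∈ W := mul_mem (inv_mem hw) (hun w hw)
  have hinv := inverted_quot hu w
  generalize he : w⁻¹ * (u * w * u) = t at ht hinv
  have h1 : t = 1 := by
    by_contra hne
    obtain ⟨p, hp, hpd⟩ := Nat.exists_prime_and_dvd (fun e => hne (orderOf_eq_one_iff.1 e))
    have hpW := hpd.trans (Subgroup.orderOf_dvd_natCard W ht)
    obtain ⟨v, y, hv, hy, hc⟩ := hcw p hp hpW
    exact h.not_both hp (Odd.of_dvd_nat hW hpW) hpd hy.symm.dvd hu hv hinv hc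
  rw [h1, inv_mul_eq_one] at he
  show u * w = w * u
  calc u * w = u * w * (u * u) := by rw [invol_mul_self hu, mul_one]
    _ = u * w * u * u := by group
    _ = w * u := by rw [← he]

/-- An element commuting with an involution modulo a normal subgroup of odd order can be moved
within its coset to one commuting with it. -/
theorem exists_commute_lift {N : Subgroup G} [N.Normal] (hN : Odd (Nat.card N)) {v w : G}
    (hv : orderOf v = 2) (h : w⁻¹ * (v * w * v) ∈ N) : ∃ z ∈ N, Commute v (w * z) := by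
  have hinv := inverted_quot hv w
  generalize he : w⁻¹ * (v * w * v) = x at h hinv
  obtain ⟨k, hk⟩ := Odd.of_dvd_nat hN (Subgroup.orderOf_dvd_natCard N h)
  refine ⟨x ^ (k + 1), pow_mem h _, ?_⟩
  have hz := conj_pow_inv hinv (k + 1)
  rw [invol_inv hv] at hz
  have hvw : v * w * v = w * x := by rw [← he, mul_inv_cancel_left]
  have hxz : x * (x ^ (k + 1))⁻¹ = x ^ (k + 1) := by
    rw [mul_inv_eq_iff_eq_mul, ← pow_add, show k + 1 + (k + 1) = 2 * k + 1 + 1 by omega,
      pow_succ x (2 * k + 1), ← hk, pow_orderOf_eq_one, one_mul]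
  show v * (w * x ^ (k + 1)) = w * x ^ (k + 1) * v
  calc v * (w * x ^ (k + 1))
      = v * w * (v * v) * x ^ (k + 1) * (v * v) := by rw [invol_mul_self hv]; group
    _ = v * w * v * (v * x ^ (k + 1) * v) * v := by group
    _ = w * x ^ (k + 1) * v := by rw [hvw, hz, mul_assoc w, hxz]

theorem exists_invol_lift {N : Subgroup G} [N.Normal] (hN : Odd (Nat.card N)) {uq : G ⧸ N}
    (hu : orderOf uq = 2) : ∃ u : G, orderOf u = 2 ∧ (u : G ⧸ N) = uq := by
  obtain ⟨g, rfl⟩ := QuotientGroup.mk_surjective uq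
  have h2 : g ^ 2 ∈ N := by
    rw [← QuotientGroup.eq_one_iff, QuotientGroup.mk_pow, ← hu, pow_orderOf_eq_one]
  obtain ⟨m, hm⟩ := hN
  refine ⟨g ^ Nat.card N, invol_of_mul_self ?_ ?_, ?_⟩
  · rw [← pow_add, ← two_mul, pow_mul]
    exact orderOf_dvd_iff_pow_eq_one.1 (Subgroup.orderOf_dvd_natCard N h2)
  · intro e
    have : ((g ^ Nat.card N : G) : G ⧸ N) = 1 := by rw [e]; rfl
    rw [QuotientGroup.mk_pow, ← orderOf_dvd_iff_pow_eq_one, hu, hm] at this
    omega
  · rw [QuotientGroup.mk_pow, hm, pow_succ, pow_mul, ← hu, pow_orderOf_eq_one, one_pow, one_mul]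

theorem orderOf_mk_dvd {N : Subgroup G} [N.Normal] (x : G) : orderOf (x : G ⧸ N) ∣ orderOf x :=
  orderOf_map_dvd (QuotientGroup.mk' N) x

/-- An inverted element of a quotient comes from an inverted element. -/
theorem exists_inverted_lift {N : Subgroup G} [N.Normal] {u : G} (hu : orderOf u = 2)
    {xq : G ⧸ N} (hinv : (u : G ⧸ N) * xq * (u : G ⧸ N)⁻¹ = xq⁻¹) {p : ℕ} (hp : Odd p)
    (hx : orderOf xq = p) : ∃ x : G, p ∣ orderOf x ∧ u * x * u⁻¹ = x⁻¹ := by
  obtain ⟨w, rfl⟩ := QuotientGroup.mk_surjective xq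
  refine ⟨w⁻¹ * (u * w * u), ?_, inverted_quot hu w⟩
  have e : ((w⁻¹ * (u * w * u) : G) : G ⧸ N) = ((w : G ⧸ N) ^ 2)⁻¹ := by
    have : ((u * w * u : G) : G ⧸ N) = (w : G ⧸ N)⁻¹ := by
      rw [← hinv]
      simp only [QuotientGroup.mk_mul, ← QuotientGroup.mk_inv, invol_inv hu]
    rw [QuotientGroup.mk_mul, QuotientGroup.mk_inv, this, pow_two, mul_inv_rev]
  have h2 : orderOf ((w : G ⧸ N) ^ 2)⁻¹ = p := by
    rw [orderOf_inv, orderOf_pow' _ two_ne_zero, hx]
    have : Nat.gcd p 2 = 1 := Nat.coprime_two_right.2 hp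
    rw [this, Nat.div_one]
  rw [← h2, ← e]
  exact orderOf_mk_dvd _

theorem Dich.subgroup (h : Dich G) (L : Subgroup G) : Dich L := by
  intro p hp ho x y u v hx hy hu hv hinv hc
  refine h p hp ho x y u v ?_ ?_ ?_ ?_ (by simpa using congrArg Subtype.val hinv)
    (congrArg Subtype.val hc.eq) <;> rwa [Subgroup.orderOf_coe]

theorem Dich.quotient (h : Dich G) (N : Subgroup G) [N.Normal] (hN : Odd (Nat.card N)) :
    Dich (G ⧸ N) := by
  intro p hp ho x y u v hx hy hu hv hinv hc
  obtain ⟨u', hu', rfl⟩ := exists_invol_lift hN hu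
  obtain ⟨v', hv', rfl⟩ := exists_invol_lift hN hv
  obtain ⟨x', hx', hinv'⟩ := exists_inverted_lift hu' hinv ho hx
  obtain ⟨w, rfl⟩ := QuotientGroup.mk_surjective y
  have hw : w⁻¹ * (v' * w * v') ∈ N := by
    rw [← QuotientGroup.eq_one_iff]
    simp only [QuotientGroup.mk_mul, QuotientGroup.mk_inv]
    rw [hc.eq, mul_assoc (w : G ⧸ N) (v' : G ⧸ N)]
    rw [← QuotientGroup.mk_mul N v' v', invol_mul_self hv']
    simp
  obtain ⟨z, hz, hcz⟩ := exists_commute_lift hN hv' hw
  refine h.not_both hp ho hx' ?_ hu' hv' hinv' hcz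
  rw [← hy]
  have : ((w * z : G) : G ⧸ N) = w := by
    rw [QuotientGroup.mk_mul, (QuotientGroup.eq_one_iff z).2 hz, mul_one]
  rw [← this]
  exact orderOf_mk_dvd _

/-- Baer-Suzuki: with an elementary abelian Sylow 2-subgroup, an involution centraliser normalises
it. -/
theorem Dich.commute_le_normalizer (h : Dich G) (T : Sylow 2 G)
    (hsq : ∀ a ∈ (T : Subgroup G), a * a = 1) {s : G} (hs : s ∈ (T : Subgroup G)) (hs1 : s ≠ 1)
    {g : G} (hg : Commute g s) : g ∈ Subgroup.normalizer ((T : Subgroup G) : Set G) := by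
  haveI : Fact (Nat.Prime 2) := ⟨Nat.prime_two⟩
  have hso := invol_of_mul_self (hsq s hs) hs1
  set C := Subgroup.centralizer ({s} : Set G)
  have hTC : (T : Subgroup G) ≤ C := fun a ha => by
    rw [Subgroup.mem_centralizer_singleton_iff]
    have hinv : ∀ b ∈ (T : Subgroup G), b⁻¹ = b := fun b hb => inv_eq_of_mul_eq_one_right (hsq b hb)
    calc a * s = (a * s)⁻¹ := (hinv _ (mul_mem ha hs)).symm
      _ = s * a := by rw [mul_inv_rev, hinv a ha, hinv s hs]
  have hmem : ∀ a : C, (a : G) ∈ (T : Subgroup G) → a ∈ Cfsg.pCore 2 C := by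
    intro a ha
    by_cases ha1 : a = 1
    · rw [ha1]; exact one_mem _
    have hao : orderOf a = 2 := by
      rw [← Subgroup.orderOf_coe]
      exact invol_of_mul_self (hsq a ha) (fun e => ha1 (Subtype.ext e))
    refine baer_suzuki_mem_pCore fun c => ?_
    have hbo : orderOf (c * a * c⁻¹) = 2 := by rw [orderOf_conj_eq, hao]
    have hodd2 : ∀ p, p.Prime → p ∣ orderOf (a * (c * a * c⁻¹)) → p = 2 := by
      intro p hp hpd
      by_contra hne
      have hcs : Commute s ((a * (c * a * c⁻¹) : C) : G) :=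
        (Subgroup.mem_centralizer_singleton_iff.1 (a * (c * a * c⁻¹)).2).symm
      refine h.not_both hp (hp.odd_of_ne_two hne) (x := ((a * (c * a * c⁻¹) : C) : G))
        (y := ((a * (c * a * c⁻¹) : C) : G)) (u := (a : G)) (v := s) ?_ ?_ ?_ hso ?_ hcs
      · rwa [Subgroup.orderOf_coe]
      · rwa [Subgroup.orderOf_coe]
      · rw [Subgroup.orderOf_coe, hao]
      · simpa using congrArg Subtype.val (conj_left_mul hao hbo)
    obtain ⟨k, hk⟩ : ∃ k, orderOf (a * (c * a * c⁻¹)) = 2 ^ k :=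
      ⟨_, Nat.eq_prime_pow_of_unique_prime_dvd (orderOf_pos _).ne' fun {d} hd hdd => hodd2 d hd hdd⟩
    intro d
    obtain ⟨j, hj⟩ := (mem_closure_pair hao hbo).1 d.2
    refine ⟨k + 1, Subtype.ext ?_⟩
    rw [SubgroupClass.coe_pow, OneMemClass.coe_one]
    rcases hj with e | e <;> rw [e]
    · rw [pow_succ, pow_mul, ← zpow_natCast _ (2 ^ k), ← zpow_mul, mul_comm, zpow_mul, zpow_natCast,
        ← hk, pow_orderOf_eq_one, one_zpow, one_pow]
    · by_cases h1 : (a * (c * a * c⁻¹)) ^ j * a = 1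
      · rw [h1, one_pow]
      · rw [pow_succ', pow_mul, pow_two, invol_mul_self (left_mul_pow_invol hao hbo j h1), one_pow]
  have hp : IsPGroup 2 ((Cfsg.pCore 2 C).map C.subtype) :=
    (CfsgLib.Solvable.pCore_isPGroup (G := C) 2).map _
  have hle : (T : Subgroup G) ≤ (Cfsg.pCore 2 C).map C.subtype := fun a ha =>
    ⟨⟨a, hTC ha⟩, hmem ⟨a, hTC ha⟩ ha, rfl⟩
  have heq := T.is_maximal' hp hle
  have hgC : g ∈ C := Subgroup.mem_centralizer_singleton_iff.2 hg
  haveI : (Cfsg.pCore 2 C).Normal := CfsgLib.Solvable.pCore_normal 2 C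
  have key : ∀ k ∈ C, ∀ a ∈ (T : Subgroup G), k * a * k⁻¹ ∈ (T : Subgroup G) := by
    intro k hk a ha
    rw [← heq] at ha ⊢
    obtain ⟨b, hb, rfl⟩ := ha
    exact ⟨⟨k, hk⟩ * b * ⟨k, hk⟩⁻¹, Subgroup.Normal.conj_mem inferInstance b hb _, rfl⟩
  rw [Subgroup.mem_normalizer_iff]
  refine fun a => ⟨key g hgC a, fun ha => ?_⟩
  have := key g⁻¹ (inv_mem hgC) _ ha
  simpa [mul_assoc] using this

end CfsgLib.EqOrder
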