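import Cfsg.Agent.Lib.EqOrder.Elem
import Cfsg.Agent.Lib.Geom.PairStab
import Cfsg.Agent.S0813

/-!
# The semiaffine normalizer: `|T| = 8` is impossible, `|T| = 32` gives `Aut PSL(2, 32)`
-/

set_option autoImplicit false
set_option linter.unusedSectionVars false
set_option linter.style.haveILetI false

namespace CfsgLib.EqOrder

open Subgroup CfsgLib.Invol
open scoped MatrixGroups

variable {G : Type*} [Group G] [Finite G] {T : Sylow 2 G}

theorem fix_arith_three : ∀ j < 3, 1 ≤ j → 2 ^ 3 % 3 = 2 ^ j % 3 → j = 1 := by decide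

theorem fix_arith_five : ∀ j < 5, 1 ≤ j → 2 ^ 5 % 5 = 2 ^ j % 5 → j = 1 := by decide

set_option maxHeartbeats 1000000 in
theorem semi_case (h : Base T) (hn : ¬ (T : Subgroup G).Normal) {t : ℕ}
    (hcase : (Nat.card (T : Subgroup G) = 8 ∧ t = 3) ∨ (Nat.card (T : Subgroup G) = 32 ∧ t = 5))
    (hidx : (CN T).index = (Nat.card (T : Subgroup G) - 1) * t) :
    Nonempty (G ≃* MulAut (Matrix.ProjectiveSpecialLinearGroup (Fin 2) (GaloisField 2 5))) := by
  classical
  haveI : Fact (Nat.Prime 2) := ⟨Nat.prime_two⟩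
  have htp : t.Prime := by rcases hcase with ⟨-, rfl⟩ | ⟨-, rfl⟩ <;> norm_num
  haveI : Fact t.Prime := ⟨htp⟩
  have hto : Odd t := by rcases hcase with ⟨-, rfl⟩ | ⟨-, rfl⟩ <;> decide
  have ht4 : t - 1 ∣ 4 := by rcases hcase with ⟨-, rfl⟩ | ⟨-, rfl⟩ <;> norm_num
  have hrp : (Nat.card (T : Subgroup G) - 1).Prime := by
    rcases hcase with ⟨e, -⟩ | ⟨e, -⟩ <;> rw [e] <;> norm_num
  obtain ⟨s, hs, hs1⟩ := h.exists_ne_one
  have hso := h.invol hs hs1
  have hdich := h.eq.dich
  -- the centraliser `D` of `s`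
  set D := Subgroup.centralizer ({s} : Set G) with hDdef
  have hDN : D ≤ NH T := fun g hg => h.mem_NH hs hs1 (Subgroup.mem_centralizer_singleton_iff.1 hg)
  have hCD : CT T ≤ D := fun g hg =>
    Subgroup.mem_centralizer_singleton_iff.2 (mem_CT.1 hg s hs).eq
  set Cd := (CT T).subgroupOf D with hCd
  haveI hCdn : Cd.Normal :=
    ⟨fun _ hc m => Subgroup.mem_subgroupOf.2 (CT_conj_mem (hDN m.2) (Subgroup.mem_subgroupOf.1 hc))⟩
  have hCdi : Cd.index = t := by
    have h1 := Subgroup.relIndex_mul_index (Base.CN_le_stab (T := T) hs)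
    rw [hidx, h.stab_index hs hs1, mul_comm (Nat.card _ - 1) t] at h1
    have h2 : (CN T).relIndex (Stab T s) = t := Nat.eq_of_mul_eq_mul_right hrp.pos h1
    rw [← h2]
    exact (Subgroup.relIndex_subgroupOf hDN).symm
  obtain ⟨P⟩ := (inferInstance : Nonempty (Sylow t D))
  obtain ⟨f₀, hf₀P, hf₀C⟩ : ∃ f : D, f ∈ (P : Subgroup D) ∧ f ∉ Cd := by
    by_contra hne
    push Not at hne
    exact P.not_dvd_index (hCdi.symm.dvd.trans (Subgroup.index_dvd_of_le (fun f hf => hne f hf)))
  set f : G := (f₀ : G) with hfdef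
  have hfs : Commute f s := Subgroup.mem_centralizer_singleton_iff.1 f₀.2
  have hfC : f ∉ CT T := fun hc => hf₀C (Subgroup.mem_subgroupOf.2 hc)
  have hfN : f ∈ NH T := hDN f₀.2
  have hfp : IsPGroup t (zpowers f) := by
    refine (P.2.map D.subtype).to_le (zpowers_le.2 ?_)
    exact ⟨f₀, hf₀P, rfl⟩
  have hf1 : f ≠ 1 := fun e => hfC (e ▸ one_mem _)
  -- an element of order `t` centralised by an involution
  obtain ⟨y, hy, hvy⟩ : ∃ y : G, orderOf y = t ∧ Commute s y := by
    obtain ⟨k, hk⟩ := IsPGroup.iff_card.1 hfp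
    rw [Nat.card_zpowers] at hk
    have hk0 : k ≠ 0 := fun e => hf1 (orderOf_eq_one_iff.1 (by rw [hk, e, pow_zero]))
    exact exists_commute_prime hfs.symm (hk ▸ dvd_pow_self t hk0)
  have hcw : ∀ W : Subgroup G, IsPGroup t W → ∀ p : ℕ, p.Prime → p ∣ Nat.card W →
      ∃ v y : G, orderOf v = 2 ∧ orderOf y = p ∧ Commute v y := by
    intro W hW p hp hpd
    obtain ⟨k, hk⟩ := IsPGroup.iff_card.1 hW
    have : p = t := (Nat.prime_dvd_prime_iff_eq hp htp).1 (hp.dvd_of_dvd_pow (hk ▸ hpd))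
    exact ⟨s, y, hso, this ▸ hy, hvy⟩
  have hoddW : ∀ W : Subgroup G, IsPGroup t W → Odd (Nat.card W) := by
    intro W hW
    obtain ⟨k, hk⟩ := IsPGroup.iff_card.1 hW
    exact hk ▸ hto.pow
  have hnormCent : ∀ W : Subgroup G, IsPGroup t W → ∀ u : G, orderOf u = 2 →
      u ∈ normalizer (W : Set G) → ∀ w ∈ W, Commute u w := by
    intro W hW u hu huW w hw
    refine hdich.commute_of_normalize (hoddW W hW) (hcw W hW) hu (fun a ha => ?_) hw
    have := (Subgroup.mem_normalizer_iff.1 huW a).1 ha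
    rwa [invol_inv hu] at this
  obtain ⟨S, hS⟩ := hfp.exists_le_sylow
  have hfS : f ∈ (S : Subgroup G) := hS (mem_zpowers f)
  -- the Sylow `t`-subgroup is cyclic
  haveI hcyc : IsCyclic (S : Subgroup G) := by
    rcases Cfsg.Agent.S4020.result h.eq.pVersion S with hc | he | ⟨⟨e⟩⟩
    · exact hc
    swap
    · exfalso
      have := hoddW _ S.2
      rw [Nat.card_congr e.toEquiv, Nat.card_eq_fintype_card, QuaternionGroup.card] at this
      exact absurd this (by decide)
    have hexp : ∀ x : G, IsPGroup t (zpowers x) → x ^ t = 1 := by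
      intro x hx
      obtain ⟨g, hg⟩ := exists_conj_mem_sylow S hx
      have := he.2 _ (hg x (mem_zpowers x))
      rwa [conj_pow, conj_eq_one_iff] at this
    have hft : orderOf f = t :=
      ((Nat.dvd_prime htp).1 (orderOf_dvd_of_pow_eq_one (hexp f hfp))).resolve_left
        fun e => hf1 (orderOf_eq_one_iff.1 e)
    have hzf : ∀ x : G, orderOf x = t → (Nat.card (T : Subgroup G)).Coprime (Nat.card (zpowers x)) := by
      intro x hx
      rw [Nat.card_zpowers, hx]
      rcases hcase with ⟨e, rfl⟩ | ⟨e, rfl⟩ <;> rw [e] <;> norm_num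
    have hCt : ¬ t ∣ Nat.card (CT T) := by
      intro hd
      obtain ⟨f₁, hf₁⟩ := exists_prime_orderOf_dvd_card' t hd
      rw [← Subgroup.orderOf_coe] at hf₁
      have hn1 : zpowers (f₁ : G) ≤ normalizer ((T : Subgroup G) : Set G) :=
        zpowers_le.2 (CT_le_NH f₁.2)
      have hn2 : zpowers f ≤ normalizer ((T : Subgroup G) : Set G) := zpowers_le.2 hfN
      obtain ⟨g, hg⟩ := h.eq ((T : Subgroup G) ⊔ zpowers (f₁ : G)) ((T : Subgroup G) ⊔ zpowers f) (by
        rw [card_sup_of_disjoint hn1 (inf_eq_bot_of_coprime (hzf _ hf₁)),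
          card_sup_of_disjoint hn2 (inf_eq_bot_of_coprime (hzf _ hft)), Nat.card_zpowers,
          Nat.card_zpowers, hf₁, hft])
      set X := (T : Subgroup G) ⊔ zpowers (f₁ : G) with hX
      have hT1 : ∀ a ∈ (T : Subgroup G), ∀ x ∈ X, Commute a x := by
        intro a ha x hx
        have : X ≤ Subgroup.centralizer ({a} : Set G) := sup_le
          (fun b hb => Subgroup.mem_centralizer_singleton_iff.2 (h.comm hb ha).eq)
          (zpowers_le.2 (Subgroup.mem_centralizer_singleton_iff.2 (mem_CT.1 f₁.2 a ha).eq))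
        exact (Subgroup.mem_centralizer_singleton_iff.1 (this hx)).symm
      have hT2 : ∀ x ∈ X, Commute (f₁ : G) x := by
        intro x hx
        have : X ≤ Subgroup.centralizer ({(f₁ : G)} : Set G) := sup_le
          (fun b hb => Subgroup.mem_centralizer_singleton_iff.2 (mem_CT.1 f₁.2 b hb).symm.eq)
          (zpowers_le.2 (Subgroup.mem_centralizer_singleton_iff.2 rfl))
        exact (Subgroup.mem_centralizer_singleton_iff.1 (this hx)).symm
      have hcomm : ∀ x ∈ X, ∀ z ∈ X, Commute x z := by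
        intro x hx z hz
        have : X ≤ Subgroup.centralizer ({z} : Set G) := sup_le
          (fun b hb => Subgroup.mem_centralizer_singleton_iff.2 (hT1 b hb z hz).eq)
          (zpowers_le.2 (Subgroup.mem_centralizer_singleton_iff.2 (hT2 z hz).eq))
        exact Subgroup.mem_centralizer_singleton_iff.1 (this hx)
      refine hfC (mem_CT.2 fun a ha => ?_)
      have h1 : f ∈ X.map (MulAut.conj g).toMonoidHom := hg ▸ Subgroup.mem_sup_right (mem_zpowers f)
      have h2 : a ∈ X.map (MulAut.conj g).toMonoidHom := hg ▸ Subgroup.mem_sup_left ha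
      obtain ⟨x, hx, hxf⟩ := h1
      obtain ⟨z, hz, hza⟩ := h2
      rw [← hxf, ← hza]
      exact (hcomm x hx z hz).map (MulAut.conj g).toMonoidHom
    have hDt : ∀ W : Subgroup G, IsPGroup t W → W ≤ D → Nat.card W ∣ t := by
      intro W hW hWD
      obtain ⟨k, hk⟩ := IsPGroup.iff_card.1 hW
      have h1 : Nat.card W ∣ Nat.card (CT T) * t := by
        have h2 := Subgroup.card_dvd_of_le hWD
        rwa [← Cd.card_mul_index, hCdi,
          Nat.card_congr (Subgroup.subgroupOfEquivOfLe hCD).toEquiv] at h2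
      refine Nat.Coprime.dvd_of_dvd_mul_left ?_ h1
      rw [hk]
      exact ((Nat.Prime.coprime_iff_not_dvd htp).2 hCt).pow_left k
    -- the fixed points of `f` on `T`
    set U := (T : Subgroup G) ⊓ Subgroup.centralizer ({f} : Set G) with hUdef
    have hsU : s ∈ U := ⟨hs, Subgroup.mem_centralizer_singleton_iff.2 hfs.symm.eq⟩
    have hU2 : Nat.card U = 2 := by
      obtain ⟨n, hn'⟩ := IsPGroup.iff_card.1 T.2
      obtain ⟨j, hjn, hj⟩ := (Nat.dvd_prime_pow Nat.prime_two).1
        (hn' ▸ Subgroup.card_dvd_of_le (inf_le_left : U ≤ (T : Subgroup G)))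
      have hj0 : j ≠ 0 := by
        rintro rfl
        exact hs1 (Subgroup.mem_bot.1 (Subgroup.card_eq_one.1 hj ▸ hsU))
      have hjlt : j ≠ n := by
        rintro rfl
        have hle : U = (T : Subgroup G) :=
          Subgroup.eq_of_le_of_card_ge inf_le_left (by rw [hj, hn'])
        exact hfC (mem_CT.2 fun a ha =>
          (Subgroup.mem_centralizer_singleton_iff.1 (hle.ge ha).2).symm)
      let ι : zpowers f →* MulAut (T : Subgroup G) :=
        (T : Subgroup G).normalizerMonoidHom.comp (Subgroup.inclusion (zpowers_le.2 hfN))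
      letI : MulAction (zpowers f) (T : Subgroup G) := MulAction.compHom _ ι
      have hsmul : ∀ (g : zpowers f) (a : (T : Subgroup G)),
          ((g • a : (T : Subgroup G)) : G) = (g : G) * a * (g : G)⁻¹ := fun _ _ => rfl
      have hfix : Nat.card (MulAction.fixedPoints (zpowers f) (T : Subgroup G)) = Nat.card U := by
        refine Nat.card_congr
          { toFun := fun a => ⟨(a.1 : G), a.1.2, Subgroup.mem_centralizer_singleton_iff.2 ?_⟩
            invFun := fun a => ⟨⟨a.1, a.2.1⟩, fun g => Subtype.ext ?_⟩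
            left_inv := fun _ => rfl
            right_inv := fun _ => rfl }
        · have e := congrArg Subtype.val (a.2 (⟨f, mem_zpowers f⟩ : zpowers f))
          rw [hsmul] at e
          exact (mul_inv_eq_iff_eq_mul.1 e).symm
        · rw [hsmul]
          obtain ⟨i, hi⟩ := g.2
          rw [← hi]
          have hc : Commute (f ^ i) (a : G) :=
            Commute.zpow_left (Subgroup.mem_centralizer_singleton_iff.1 a.2.2).symm i
          rw [hc.eq, mul_inv_cancel_right]
      have hmod := hfp.card_modEq_card_fixedPoints (T : Subgroup G)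
      rw [hfix, hj, hn'] at hmod
      rw [hj]
      rcases hcase with ⟨e, rfl⟩ | ⟨e, rfl⟩ <;> rw [hn'] at e
      · have hn3 : n = 3 := Nat.pow_right_injective le_rfl (show 2 ^ n = 2 ^ 3 from e)
        subst hn3
        rw [fix_arith_three j (by omega) (Nat.pos_of_ne_zero hj0) hmod, pow_one]
      · have hn5 : n = 5 := Nat.pow_right_injective le_rfl (show 2 ^ n = 2 ^ 5 from e)
        subst hn5
        rw [fix_arith_five j (by omega) (Nat.pos_of_ne_zero hj0) hmod, pow_one]
    set L := Subgroup.centralizer ({f} : Set G) with hLdef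
    have hsL : s ∈ L := hsU.2
    obtain ⟨Q, hQ⟩ := (isPGroup_zpowers_of_invol (x := (⟨s, hsL⟩ : L))
      (by rw [← Subgroup.orderOf_coe]; exact hso)).exists_le_sylow
    have hQU : ∀ q ∈ (Q : Subgroup L), (q : G) ∈ U := by
      intro q hq
      obtain ⟨g, hg⟩ := exists_conj_mem_sylow T (Q.2.map L.subtype)
      have h1 := hg _ ⟨q, hq, rfl⟩
      have h2 := hg s ⟨_, hQ (mem_zpowers _), rfl⟩
      have hqs : Commute (q : G) s := (Commute.conj_iff g).1 (h.comm h1 h2)
      have hqq : (q : G) * (q : G) = 1 := by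
        have := h.sq _ h1
        rw [conj_mul, conj_eq_one_iff] at this
        exact this
      exact ⟨CAHyp.mem_T_of_sq (h.mem_NH hs hs1 hqs) hqq, q.2⟩
    have hQ2 : Nat.card (Q : Subgroup L) = 2 := by
      refine le_antisymm ?_ ?_
      · exact le_of_le_of_eq
          (Nat.card_le_card_of_injective (fun q : (Q : Subgroup L) => (⟨q, hQU q q.2⟩ : U))
            fun a b e => Subtype.ext (Subtype.ext (congrArg (Subtype.val : U → G) e))) hU2
      · have := Subgroup.card_dvd_of_le hQ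
        rw [Nat.card_zpowers, ← Subgroup.orderOf_coe, show orderOf s = 2 from hso] at this
        exact Nat.le_of_dvd Nat.card_pos this
    haveI : IsCyclic (Q : Subgroup L) := isCyclic_of_prime_card hQ2
    obtain ⟨W, hWn, hWo, hWi⟩ := exists_compl_of_cyclic_two Q
    rw [hQ2] at hWi
    haveI := hWn
    have hoddmem : ∀ x : L, Odd (orderOf x) → x ∈ W := by
      intro x hx
      obtain ⟨m, hm⟩ := exists_pow_eq_self_of_coprime (Nat.coprime_two_left.2 hx)
      rw [← hm]
      exact pow_mem (hWi ▸ Subgroup.pow_index_mem W x) m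
    have hSL : (S : Subgroup G) ≤ L := fun a ha =>
      Subgroup.mem_centralizer_singleton_iff.2 (h.eq.ab htp hto S S.2 a ha f hfS).eq
    set SL' : Sylow t L := S.subtype hSL
    have hSW : (SL' : Subgroup L) ≤ W := fun x hx => hoddmem x (by
      rw [← Subgroup.orderOf_coe]
      exact odd_orderOf_of_mem (hoddW _ S.2) (Subgroup.mem_subgroupOf.1 hx))
    have htop := Sylow.normalizer_sup_eq_top (SL'.subtype hSW)
    obtain ⟨x, hx, hxW⟩ : ∃ x : L,
        x ∈ normalizer ((((SL'.subtype hSW : Sylow t W) : Subgroup W).map W.subtype : Subgroup L) : Set L) ∧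
        x ∉ W := by
      by_contra hne
      push Not at hne
      rw [sup_eq_right.2 hne] at htop
      rw [htop, Subgroup.index_top] at hWi
      omega
    have hmapS : ((SL'.subtype hSW : Sylow t W) : Subgroup W).map W.subtype = (SL' : Subgroup L) :=
      Subgroup.map_subgroupOf_eq_of_le hSW
    rw [hmapS] at hx
    have hev : Even (orderOf x) := Nat.not_odd_iff_even.1 fun ho => hxW (hoddmem x ho)
    obtain ⟨u, hu⟩ : ∃ u : L, u = x ^ (orderOf x / 2) := ⟨_, rfl⟩
    have huo : orderOf u = 2 := by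
      rw [hu, orderOf_pow_orderOf_div (orderOf_pos x).ne' (even_iff_two_dvd.1 hev)]
    have hu2 : orderOf (u : G) = 2 := by rw [Subgroup.orderOf_coe, huo]
    have huS : (u : G) ∈ normalizer ((S : Subgroup G) : Set G) := by
      have hu' := hu ▸ Subgroup.pow_mem _ hx (orderOf x / 2)
      rw [Subgroup.mem_normalizer_iff] at hu' ⊢
      intro a
      by_cases haL : a ∈ L
      · exact hu' ⟨a, haL⟩
      · refine ⟨fun ha => absurd (hSL ha) haL, fun ha => absurd ?_ haL⟩
        have := mul_mem (mul_mem (inv_mem u.2) (hSL ha)) u.2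
        simpa [mul_assoc] using this
    have hcu := hnormCent _ S.2 _ hu2 huS
    obtain ⟨g, hg⟩ := h.eq.conj_invol hu2 hso
    have hSt : Nat.card (S : Subgroup G) ∣ t := by
      have := hDt ((S : Subgroup G).map (MulAut.conj g).toMonoidHom) (S.2.map _) (by
        rintro _ ⟨a, ha, rfl⟩
        refine Subgroup.mem_centralizer_singleton_iff.2 ?_
        rw [← hg]
        exact ((Commute.conj_iff g).2 (hcu a ha).symm).eq)
      rwa [Nat.card_congr ((S : Subgroup G).equivMapOfInjective (MulAut.conj g).toMonoidHom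
        (MulAut.conj g).injective).toEquiv]
    rcases (Nat.dvd_prime htp).1 hSt with e | e
    · haveI := (Nat.card_eq_one_iff_unique.1 e).1
      exact isCyclic_of_subsingleton
    · exact isCyclic_of_prime_card e
  -- the normal `t`-complement
  have hNS : normalizer ((S : Subgroup G) : Set G) ≤ centralizer ((S : Subgroup G) : Set G) := by
    intro x hx
    set N := normalizer ((S : Subgroup G) : Set G)
    set C := centralizer ((S : Subgroup G) : Set G)
    have h4 : x ^ 4 ∈ C := by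
      obtain ⟨c, hc⟩ := ht4
      rw [hc, pow_mul]
      exact pow_mem (pow_pred_mem_centralizer S hx) c
    obtain ⟨k, m, hm, hxo⟩ := Nat.exists_eq_pow_mul_and_not_dvd (orderOf_pos x).ne' 2 (by norm_num)
    have hxm : x ^ m ∈ C := by
      have hp : IsPGroup 2 (zpowers (x ^ m)) := by
        refine IsPGroup.of_card (n := k) ?_
        rw [Nat.card_zpowers, orderOf_pow_of_dvd (by rintro rfl; simp at hm) ⟨2 ^ k, by rw [hxo]; ring⟩,
          hxo, Nat.mul_div_cancel _ (Nat.pos_of_ne_zero (by rintro rfl; simp at hm))]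
      obtain ⟨g, hg⟩ := exists_conj_mem_sylow T hp
      have hsq := h.sq _ (hg _ (mem_zpowers _))
      rw [conj_mul, conj_eq_one_iff] at hsq
      by_cases h1 : x ^ m = 1
      · rw [h1]; exact one_mem _
      · refine mem_centralizer_iff.2 fun a ha => ?_
        exact (hnormCent _ S.2 _ (invol_of_mul_self hsq h1) (pow_mem hx m) a ha).symm
    have hco : Nat.gcd 4 m = 1 := by
      rw [show (4 : ℕ) = 2 ^ 2 from rfl]
      exact ((Nat.Prime.coprime_iff_not_dvd Nat.prime_two).2 hm).pow_left 2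
    have hb := Nat.gcd_eq_gcd_ab 4 m
    rw [hco] at hb
    have : x = (x ^ 4) ^ (Nat.gcdA 4 m) * (x ^ m) ^ (Nat.gcdB 4 m) := by
      rw [← zpow_natCast x 4, ← zpow_natCast x m, ← zpow_mul, ← zpow_mul, ← zpow_add,
        ← hb, Nat.cast_one, zpow_one]
    rw [this]
    exact mul_mem (zpow_mem h4 _) (zpow_mem hxm _)
  have hco := MonoidHom.ker_transferSylow_isComplement' S hNS
  set G₀ := (MonoidHom.transferSylow S hNS).ker with hG₀
  haveI : G₀.Normal := MonoidHom.normal_ker _
  have hG₀t : ¬ t ∣ Nat.card G₀ := by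
    rw [← hco.index_eq_card]; exact S.not_dvd_index
  have hG₀i : G₀.index = Nat.card (S : Subgroup G) := hco.symm.index_eq_card
  have hSodd := hoddW _ S.2
  have hTG₀ : (T : Subgroup G) ≤ G₀ := by
    intro a ha
    obtain ⟨j, hj⟩ := hSodd
    have h3 : a ^ (2 * j + 1) ∈ G₀ := hj ▸ hG₀i ▸ Subgroup.pow_index_mem G₀ a
    rwa [pow_succ, pow_mul, pow_two, h.sq a ha, one_pow, one_mul] at h3
  set T₀ : Sylow 2 G₀ := T.subtype hTG₀
  have hT₀mem : ∀ {x : G₀}, x ∈ (T₀ : Subgroup G₀) ↔ (x : G) ∈ (T : Subgroup G) :=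
    fun {x} => Subgroup.mem_subgroupOf
  have hT₀card : Nat.card (T₀ : Subgroup G₀) = Nat.card (T : Subgroup G) :=
    Nat.card_congr (subgroupOfEquivOfLe hTG₀).toEquiv
  have hctx : Ctx T₀ := by
    refine ⟨fun a ha => Subtype.ext (h.sq _ (hT₀mem.1 ha)), hT₀card ▸ h.four, fun hn' => hn ?_,
      hdich.subgroup G₀, ?_, hT₀card ▸ hrp, ?_⟩
    · haveI := hn'
      refine ⟨fun a ha g => ?_⟩
      have hb : g * a * g⁻¹ ∈ G₀ := Subgroup.Normal.conj_mem inferInstance a (hTG₀ ha) g
      by_cases hb1 : g * a * g⁻¹ = 1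
      · rw [hb1]; exact one_mem _
      have hbo : orderOf (⟨_, hb⟩ : G₀) = 2 := by
        rw [← Subgroup.orderOf_coe]
        refine invol_of_mul_self ?_ hb1
        show g * a * g⁻¹ * (g * a * g⁻¹) = 1
        rw [conj_mul, h.sq a ha, mul_one, mul_inv_cancel]
      obtain ⟨c, hc⟩ := exists_conj_invol_mem_sylow T₀ hbo
      have := hn'.conj_mem _ hc c⁻¹
      rw [show c⁻¹ * (c * (⟨_, hb⟩ : G₀) * c⁻¹) * c⁻¹⁻¹ = (⟨_, hb⟩ : G₀) by group] at this
      exact hT₀mem.1 this
    · intro a ha ha1 c _ hca b hb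
      have hda : Commute (c : G) (a : G) := congrArg Subtype.val hca.eq
      obtain ⟨d, hd, hds⟩ := h.trans (hT₀mem.1 ha) (fun e => ha1 (Subtype.ext e)) hs hs1
      -- `d c d⁻¹` centralises `s`
      have hcD : d * (c : G) * d⁻¹ ∈ D := Subgroup.mem_centralizer_singleton_iff.2
        (hds ▸ ((Commute.conj_iff d).2 hda).eq)
      have h1 : (⟨_, hcD⟩ : D) ^ t ∈ Cd := hCdi ▸ Subgroup.pow_index_mem Cd _
      have hco' : Nat.Coprime t (orderOf (d * (c : G) * d⁻¹)) := by
        rw [orderOf_conj_eq, Nat.Prime.coprime_iff_not_dvd htp]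
        exact fun hdv => hG₀t (hdv.trans (Subgroup.orderOf_dvd_natCard G₀ c.2))
      obtain ⟨m, hm⟩ := exists_pow_eq_self_of_coprime hco'
      have h2 : d * (c : G) * d⁻¹ ∈ CT T := by
        rw [← hm]; exact pow_mem (Subgroup.mem_subgroupOf.1 h1) m
      have h3 := CT_conj_mem (inv_mem hd) h2
      rw [show d⁻¹ * (d * (c : G) * d⁻¹) * d⁻¹⁻¹ = (c : G) by group] at h3
      exact Subtype.ext (mem_CT.1 h3 _ (hT₀mem.1 hb)).eq
    · intro p hp ho R hR a ha b hb
      exact Subtype.ext (h.eq.ab hp ho (R.map G₀.subtype) (hR.map _) a ⟨a, ha, rfl⟩ b ⟨b, hb, rfl⟩).eq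
  have hSL0 : IsSLTwo G₀ := isSLTwo_of_ctx _ G₀ T₀ rfl hctx (oddCore_eq_bot_of_normal h.core G₀)
  obtain ⟨F, iF, iFF, hF2, ⟨e₀⟩, hFc, hG₀c⟩ := hSL0.exists_card T₀
  rw [hT₀card] at hFc
  rcases hcase with ⟨e, rfl⟩ | ⟨e, rfl⟩
  · exfalso
    rw [hFc, e] at hG₀c
    exact hG₀t (hG₀c ▸ ⟨168, rfl⟩)
  rw [hFc, e] at hG₀c
  letI : Fintype (GaloisField 2 5) := Fintype.ofFinite _
  have hcard32 : Fintype.card (GaloisField 2 5) = 32 := card_galoisField_two (by norm_num)
  obtain ⟨ψ⟩ := nonempty_sl_psl_of_card (F := F) (K := GaloisField 2 5)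
    (by rw [hFc, e, hcard32])
  set θ : G₀ ≃* Matrix.ProjectiveSpecialLinearGroup (Fin 2) (GaloisField 2 5) := e₀.trans ψ
  have hAut : Nat.card (MulAut G₀) = 5 * 32736 := by
    rw [Nat.card_congr (MulAut.congr θ).toEquiv,
      Cfsg.Agent.S0813.result 2 5 (by norm_num) (by rw [hcard32]; norm_num) 2 le_rfl
        (fun _ => by norm_num), if_pos rfl, CfsgLib.Geom.Moebius.card_pgl_two, hcard32]
  -- the centraliser of `G₀` is trivial
  set Z := Subgroup.centralizer ((G₀ : Subgroup G) : Set G) with hZ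
  have hinf : Z ⊓ G₀ = ⊥ := by
    refine (Subgroup.eq_bot_iff_forall _).2 fun z hz => ?_
    have hc : (⟨z, hz.2⟩ : G₀) ∈ Subgroup.center G₀ := Subgroup.mem_center_iff.2 fun g =>
      Subtype.ext (Subgroup.mem_centralizer_iff.1 hz.1 g g.2)
    have h1 : e₀ ⟨z, hz.2⟩ ∈ Subgroup.center SL(2, F) := Subgroup.mem_center_iff.2 fun g => by
      obtain ⟨g, rfl⟩ := e₀.surjective g
      rw [← map_mul, ← map_mul, Subgroup.mem_center_iff.1 hc g]
    rw [sl_two_center, Subgroup.mem_bot, MulEquiv.map_eq_one_iff] at h1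
    exact congrArg Subtype.val h1
  have hZbot : Z = ⊥ := by
    have hd : Nat.card Z ∣ G₀.index := by
      refine Subgroup.card_dvd_of_injective ((QuotientGroup.mk' G₀).comp Z.subtype) ?_
      rw [injective_iff_map_eq_one]
      intro z hz
      have : (z : G) ∈ Z ⊓ G₀ := ⟨z.2, (QuotientGroup.eq_one_iff _).1 hz⟩
      rw [hinf, Subgroup.mem_bot] at this
      exact Subtype.ext this
    have hle := le_oddCore (inferInstance : Z.Normal) (Odd.of_dvd_nat (hG₀i ▸ hSodd) hd)
    rwa [h.core, le_bot_iff] at hle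
  set κ : G →* MulAut G₀ := MulAut.conjNormal
  have hκ : Function.Injective κ := by
    rw [injective_iff_map_eq_one]
    intro g hg
    refine Subgroup.mem_bot.1 (hZbot ▸ (Subgroup.mem_centralizer_iff.2 fun a ha => ?_))
    have e1 := congrArg (fun σ : MulAut G₀ => ((σ ⟨a, ha⟩ : G₀) : G)) hg
    simp only [κ, MulAut.conjNormal_apply, MulAut.one_apply] at e1
    exact (mul_inv_eq_iff_eq_mul.1 e1).symm
  haveI : Finite (MulAut G₀) := Nat.finite_of_card_ne_zero (by rw [hAut]; norm_num)
  have hGc : 5 * 32736 ≤ Nat.card G := by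
    rw [← G₀.card_mul_index, hG₀c, hG₀i]
    obtain ⟨k, hk⟩ := IsPGroup.iff_card.1 S.2
    have hk0 : k ≠ 0 := by
      rintro rfl
      exact hf1 (Subgroup.mem_bot.1 ((Subgroup.card_eq_one.1 (by rwa [pow_zero] at hk)) ▸ hfS))
    rw [hk]
    have : 5 ≤ 5 ^ k := Nat.le_self_pow hk0 5
    omega
  exact ⟨(MulEquiv.ofBijective κ (hκ.bijective_of_nat_card_le (hAut ▸ hGc))).trans (MulAut.congr θ)⟩

end CfsgLib.EqOrder
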