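import Cfsg.Agent.Lib.EqOrder.Prime
import Cfsg.Agent.Lib.Invol.CAInvol
import Mathlib.GroupTheory.Transfer

/-!
# The action on the conjugates of the Sylow 2-subgroup

`Ctx T`: `T` is a non-normal elementary abelian Sylow 2-subgroup with `|T| - 1` prime on whose
involutions `N(T)` acts with point stabiliser `C(T)`, no prime is both inverted and centralised by
involutions, and Sylow subgroups of odd order are abelian.  Then `N(T)` is strongly embedded, a
two-point stabiliser is `⟨e⟩ × A` with `e` of order `|T| - 1` and `A ≤ C(T)`, and `N(T)` is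
transitive on the other points.
-/

set_option autoImplicit false
set_option linter.unusedSectionVars false
set_option linter.style.haveILetI false

namespace CfsgLib.EqOrder

open Subgroup CfsgLib.Invol

variable {G : Type*} [Group G] [Finite G]

/-- The standing hypotheses. -/
structure Ctx (T : Sylow 2 G) : Prop where
  sq : ∀ a ∈ (T : Subgroup G), a * a = 1
  four : 4 ≤ Nat.card (T : Subgroup G)
  not_normal : ¬ (T : Subgroup G).Normal
  dich : Dich G
  cent : ∀ s ∈ (T : Subgroup G), s ≠ 1 → ∀ c ∈ NH T, Commute c s →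
    ∀ a ∈ (T : Subgroup G), Commute c a
  prime : (Nat.card (T : Subgroup G) - 1).Prime
  ab : ∀ p : ℕ, p.Prime → Odd p → ∀ Q : Subgroup G, IsPGroup p Q → ∀ a ∈ Q, ∀ b ∈ Q, Commute a b

variable {T : Sylow 2 G}

/-- The centraliser of the Sylow 2-subgroup. -/
abbrev CT (T : Sylow 2 G) : Subgroup G := Subgroup.centralizer ((T : Subgroup G) : Set G)

theorem mem_CT {c : G} : c ∈ CT T ↔ ∀ a ∈ (T : Subgroup G), Commute c a := by
  rw [mem_centralizer_iff]
  exact ⟨fun h a ha => (h a ha).symm, fun h a ha => (h a ha).symm⟩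

theorem CT_le_NH : CT T ≤ NH T := Subgroup.centralizer_le_normalizer _

theorem CT_conj_mem {m c : G} (hm : m ∈ NH T) (hc : c ∈ CT T) : m * c * m⁻¹ ∈ CT T := by
  rw [mem_CT] at hc ⊢
  intro a ha
  have ha' : m⁻¹ * a * m ∈ (T : Subgroup G) := by
    have := CAHyp.conj_mem (inv_mem hm) ha
    rwa [inv_inv] at this
  show m * c * m⁻¹ * a = a * (m * c * m⁻¹)
  calc m * c * m⁻¹ * a = m * (c * (m⁻¹ * a * m)) * m⁻¹ := by group
    _ = m * ((m⁻¹ * a * m) * c) * m⁻¹ := by rw [(hc _ ha').eq]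
    _ = _ := by group

namespace Ctx

variable (h : Ctx T)
include h

theorem invol {a : G} (ha : a ∈ (T : Subgroup G)) (ha1 : a ≠ 1) : orderOf a = 2 :=
  invol_of_mul_self (h.sq a ha) ha1

theorem comm {a b : G} (ha : a ∈ (T : Subgroup G)) (hb : b ∈ (T : Subgroup G)) : Commute a b := by
  have hinv : ∀ c ∈ (T : Subgroup G), c⁻¹ = c := fun c hc => inv_eq_of_mul_eq_one_right (h.sq c hc)
  calc a * b = (a * b)⁻¹ := (hinv _ (mul_mem ha hb)).symm
    _ = b * a := by rw [mul_inv_rev, hinv a ha, hinv b hb]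

theorem T_le_CT : (T : Subgroup G) ≤ CT T := fun _ ha => mem_CT.2 fun _ hb => h.comm ha hb

theorem mem_CT_of_commute {s c : G} (hs : s ∈ (T : Subgroup G)) (hs1 : s ≠ 1) (hc : Commute c s) :
    c ∈ CT T :=
  mem_CT.2 (h.cent s hs hs1 c (h.dich.commute_le_normalizer T h.sq hs hs1 hc) hc)

theorem exists_ne_one : ∃ s ∈ (T : Subgroup G), s ≠ 1 := by
  by_contra hc
  push Not at hc
  have e : (T : Subgroup G) = ⊥ := (Subgroup.eq_bot_iff_forall _).2 hc
  have := h.four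
  rw [e, Subgroup.card_bot] at this
  omega

theorem odd_r : Odd (Nat.card (T : Subgroup G) - 1) := by
  refine h.prime.odd_of_ne_two fun e => ?_
  have := h.four
  omega

theorem stronglyEmbedded : Cfsg.IsStronglyEmbedded (NH T) := by
  obtain ⟨a, ha, ha1⟩ := h.exists_ne_one
  refine ⟨fun e => h.not_normal (Subgroup.normalizer_eq_top_iff.1 e),
    even_card_of_invol_mem (h.invol ha ha1) (CAHyp.T_le_NH ha), fun g hg => ?_⟩
  by_contra hodd
  rw [Nat.not_odd_iff_even] at hodd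
  obtain ⟨i, ⟨hiH, k, hk, hki⟩, hi⟩ := exists_invol_mem hodd
  have hki' : g * k * g⁻¹ = i := hki
  have hk2 : orderOf k = 2 := by rw [← orderOf_conj_eq g k, hki', hi]
  have hkT := CAHyp.mem_T_of_sq hk (invol_mul_self hk2)
  have hiT := CAHyp.mem_T_of_sq hiH (invol_mul_self hi)
  refine hg (Subgroup.mem_normalizer_iff.2 ?_)
  intro b₀
  have hfwd : ∀ b ∈ (T : Subgroup G), g * b * g⁻¹ ∈ (T : Subgroup G) := fun b hb => by
    have hc : Commute (g * b * g⁻¹) i := by
      rw [← hki']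
      show g * b * g⁻¹ * (g * k * g⁻¹) = g * k * g⁻¹ * (g * b * g⁻¹)
      calc _ = g * (b * k) * g⁻¹ := by group
        _ = g * (k * b) * g⁻¹ := by rw [(h.comm hb hkT).eq]
        _ = _ := by group
    refine CAHyp.mem_T_of_sq (h.dich.commute_le_normalizer T h.sq hiT (invol_ne_one hi) hc) ?_
    calc g * b * g⁻¹ * (g * b * g⁻¹) = g * (b * b) * g⁻¹ := by group
      _ = 1 := by rw [h.sq b hb]; group
  refine ⟨hfwd b₀, fun hb => ?_⟩
  let f : ↥(T : Subgroup G) → ↥(T : Subgroup G) := fun b => ⟨g * (b : G) * g⁻¹, hfwd b b.2⟩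
  have hf : Function.Injective f := fun a b e =>
    Subtype.ext (by simpa [f] using congrArg Subtype.val e)
  obtain ⟨c, hc⟩ := Finite.injective_iff_surjective.1 hf ⟨_, hb⟩
  have hcb : g * (c : G) * g⁻¹ = g * b₀ * g⁻¹ := congrArg Subtype.val hc
  have : (c : G) = b₀ := by simpa using hcb
  rw [← this]; exact c.2

theorem exists_ne_pt : ∃ y : G ⧸ NH T, y ≠ pt T := by
  obtain ⟨g, -, hg⟩ := SetLike.exists_of_lt h.stronglyEmbedded.1.lt_top
  exact ⟨g, fun e => hg (by rwa [← smul_pt, smul_pt_iff] at e)⟩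

theorem odd_twoStab {y : G ⧸ NH T} (hy : y ≠ pt T) : Odd (Nat.card (twoStab T y)) := by
  obtain ⟨g, rfl⟩ := QuotientGroup.mk_surjective y
  have hg : g ∉ NH T := fun hg => hy (by rw [← smul_pt, smul_pt_iff.2 hg])
  have e : twoStab T (g : G ⧸ NH T) = NH T ⊓ (NH T).map (MulAut.conj g).toMonoidHom := by
    ext d; rw [mem_twoStab, mem_inter_conj_iff]
  rw [e]
  exact h.stronglyEmbedded.2.2 g hg

theorem odd_orderOf {y : G ⧸ NH T} (hy : y ≠ pt T) {d : G} (hd : d ∈ twoStab T y) :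
    Odd (orderOf d) :=
  Odd.of_dvd_nat (h.odd_twoStab hy) (Subgroup.orderOf_dvd_natCard _ hd)

theorem twoStab_trans {y : G ⧸ NH T} (hy : y ≠ pt T) {s t : G} (hs : s ∈ (T : Subgroup G))
    (hs1 : s ≠ 1) (ht : t ∈ (T : Subgroup G)) (ht1 : t ≠ 1) :
    ∃ d ∈ twoStab T y, d * s * d⁻¹ = t := by
  obtain ⟨d, h1, h2, h3⟩ := se_stab_transitive h.stronglyEmbedded hy.symm (h.invol hs hs1)
    (h.invol ht ht1) (smul_pt_iff.2 (CAHyp.T_le_NH hs)) (smul_pt_iff.2 (CAHyp.T_le_NH ht))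
  exact ⟨d, mem_twoStab.2 ⟨h1, h2⟩, h3⟩

/-- Every element of `N(T)` is the product of an element of a two-point stabiliser and one of
`C(T)`. -/
theorem NH_eq {y : G ⧸ NH T} (hy : y ≠ pt T) {m : G} (hm : m ∈ NH T) :
    ∃ d ∈ twoStab T y, d⁻¹ * m ∈ CT T := by
  obtain ⟨s, hs, hs1⟩ := h.exists_ne_one
  obtain ⟨d, hd, hds⟩ := h.twoStab_trans hy hs hs1 (CAHyp.conj_mem hm hs)
    (fun e => hs1 (by simpa using e))
  refine ⟨d, hd, h.mem_CT_of_commute hs hs1 ?_⟩
  show d⁻¹ * m * s = s * (d⁻¹ * m)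
  calc d⁻¹ * m * s = d⁻¹ * (m * s * m⁻¹) * m := by group
    _ = d⁻¹ * (d * s * d⁻¹) * m := by rw [hds]
    _ = s * (d⁻¹ * m) := by group

/-- In a subgroup of `N(T)` transitive on the involutions of `T`, `C(T)` has index `|T| - 1`. -/
theorem index_CT {X : Subgroup G} (hX : X ≤ NH T)
    (htr : ∀ s ∈ (T : Subgroup G), s ≠ 1 → ∀ t ∈ (T : Subgroup G), t ≠ 1 →
      ∃ d ∈ X, d * s * d⁻¹ = t) :
    ((CT T).subgroupOf X).index = Nat.card (T : Subgroup G) - 1 := by
  classical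
  obtain ⟨s, hs, hs1⟩ := h.exists_ne_one
  haveI := Fintype.ofFinite (T : Subgroup G)
  let f : X ⧸ (CT T).subgroupOf X → {a : (T : Subgroup G) // a ≠ 1} :=
    Quotient.lift (fun d : X => ⟨⟨(d : G) * s * (d : G)⁻¹, CAHyp.conj_mem (hX d.2) hs⟩,
      fun e => hs1 (by simpa using congrArg Subtype.val e)⟩) (by
      intro a b hab
      have hab' : a⁻¹ * b ∈ (CT T).subgroupOf X := QuotientGroup.leftRel_apply.1 hab
      have hc := (mem_CT.1 (Subgroup.mem_subgroupOf.1 hab')) s hs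
      refine Subtype.ext (Subtype.ext ?_)
      show (a : G) * s * (a : G)⁻¹ = (b : G) * s * (b : G)⁻¹
      have e : ((a : G)⁻¹ * b) * s * ((a : G)⁻¹ * b)⁻¹ = s := by
        simp only [Subgroup.coe_mul, Subgroup.coe_inv] at hc
        rw [hc.eq, mul_inv_cancel_right]
      calc (a : G) * s * (a : G)⁻¹
          = (a : G) * (((a : G)⁻¹ * b) * s * ((a : G)⁻¹ * b)⁻¹) * (a : G)⁻¹ := by rw [e]
        _ = _ := by group)
  have hf : Function.Bijective f := by
    constructor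
    · intro a b e
      obtain ⟨a, rfl⟩ := QuotientGroup.mk_surjective a
      obtain ⟨b, rfl⟩ := QuotientGroup.mk_surjective b
      have e' : (a : G) * s * (a : G)⁻¹ = (b : G) * s * (b : G)⁻¹ :=
        congrArg (fun t => (t.1 : G)) e
      refine QuotientGroup.eq.2 (Subgroup.mem_subgroupOf.2 (h.mem_CT_of_commute hs hs1 ?_))
      show (a : G)⁻¹ * b * s = s * ((a : G)⁻¹ * b)
      calc (a : G)⁻¹ * b * s = (a : G)⁻¹ * ((b : G) * s * (b : G)⁻¹) * b := by group
        _ = (a : G)⁻¹ * ((a : G) * s * (a : G)⁻¹) * b := by rw [e']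
        _ = _ := by group
    · rintro ⟨⟨t, ht⟩, ht1⟩
      obtain ⟨d, hd, hdt⟩ := htr s hs hs1 t ht (fun e => ht1 (Subtype.ext e))
      exact ⟨((⟨d, hd⟩ : X) : X ⧸ (CT T).subgroupOf X), Subtype.ext (Subtype.ext hdt)⟩
  rw [Subgroup.index, Nat.card_congr (Equiv.ofBijective f hf), Nat.card_eq_fintype_card,
    Nat.card_eq_fintype_card, Fintype.card_subtype_compl, Fintype.card_subtype_eq]

theorem normal_CT_sub {X : Subgroup G} (hX : X ≤ NH T) : ((CT T).subgroupOf X).Normal :=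
  ⟨fun _ hc m => Subgroup.mem_subgroupOf.2 (CT_conj_mem (hX m.2) (Subgroup.mem_subgroupOf.1 hc))⟩

theorem trans_NH : ∀ s ∈ (T : Subgroup G), s ≠ 1 → ∀ t ∈ (T : Subgroup G), t ≠ 1 →
    ∃ d ∈ NH T, d * s * d⁻¹ = t := by
  intro s hs hs1 t ht ht1
  obtain ⟨y, hy⟩ := h.exists_ne_pt
  obtain ⟨d, hd, e⟩ := h.twoStab_trans hy hs hs1 ht ht1
  exact ⟨d, hd.1, e⟩

theorem pow_mem_CT {y : G ⧸ NH T} (hy : y ≠ pt T) {d : G} (hd : d ∈ twoStab T y) :
    d ^ (Nat.card (T : Subgroup G) - 1) ∈ CT T := by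
  haveI := h.normal_CT_sub (X := twoStab T y) inf_le_left
  rw [← h.index_CT (X := twoStab T y) inf_le_left fun s hs hs1 t ht ht1 =>
    h.twoStab_trans hy hs hs1 ht ht1]
  exact Subgroup.mem_subgroupOf.1 (((CT T).subgroupOf (twoStab T y)).pow_index_mem ⟨d, hd⟩)

/-- The odd elements of `C(T)` form a subgroup. -/
theorem exists_K : ∃ K : Subgroup G, Odd (Nat.card K) ∧ K ≤ CT T ∧
    (∀ c ∈ CT T, Odd (orderOf c) → c ∈ K) ∧ ∀ c ∈ CT T, ∃ t ∈ (T : Subgroup G), t⁻¹ * c ∈ K := by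
  haveI : Fact (Nat.Prime 2) := ⟨Nat.prime_two⟩
  set T' : Sylow 2 (CT T) := T.subtype h.T_le_CT with hT'
  have hT'c : ((T' : Subgroup (CT T)) : Subgroup (CT T)) = (T : Subgroup G).subgroupOf (CT T) := rfl
  have hN : Subgroup.normalizer ((T' : Subgroup (CT T)) : Set (CT T)) ≤
      Subgroup.centralizer ((T' : Subgroup (CT T)) : Set (CT T)) := by
    intro x _
    rw [mem_centralizer_iff]
    intro a ha
    exact Subtype.ext ((mem_CT.1 x.2 _ (Subgroup.mem_subgroupOf.1 ha)).eq).symm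
  have hco := MonoidHom.ker_transferSylow_isComplement' T' hN
  set f := MonoidHom.transferSylow T' hN
  refine ⟨f.ker.map (CT T).subtype, ?_, map_subtype_le _, ?_, ?_⟩
  · rw [card_map_of_injective (CT T).subtype_injective, ← hco.index_eq_card]
    exact Nat.not_even_iff_odd.1 fun he => T'.not_dvd_index (even_iff_two_dvd.1 he)
  · intro c hc ho
    refine ⟨⟨c, hc⟩, MonoidHom.mem_ker.2 ?_, rfl⟩
    obtain ⟨k, hk⟩ := T'.2 (f ⟨c, hc⟩)
    refine orderOf_eq_one_iff.1 (Nat.eq_one_of_dvd_coprimes ?_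
      (orderOf_map_dvd f ⟨c, hc⟩) (orderOf_dvd_of_pow_eq_one hk))
    rw [← Subgroup.orderOf_coe]
    exact (Nat.coprime_two_right.2 ho).pow_right k
  · intro c hc
    obtain ⟨⟨⟨a, ha⟩, ⟨b, hb⟩⟩, hab⟩ := hco.symm.2 ⟨c, hc⟩
    refine ⟨a, Subgroup.mem_subgroupOf.1 ha, b, hb, ?_⟩
    have := congrArg Subtype.val hab
    simp only [Subgroup.coe_mul] at this
    rw [← this]
    simp

/-- Elements of odd order of `C(T)` have all their primes centralised by involutions. -/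
theorem eq_one_of_inverted {x u : G} (hx : x ∈ CT T) (hxo : Odd (orderOf x)) (hu : orderOf u = 2)
    (hinv : u * x * u⁻¹ = x⁻¹) : x = 1 := by
  obtain ⟨s, hs, hs1⟩ := h.exists_ne_one
  exact h.dich.eq_one hxo hu (h.invol hs hs1) hinv ((mem_CT.1 hx) s hs).symm

theorem not_dvd_CT {y : G ⧸ NH T} (hy : y ≠ pt T) {e u : G} (he : orderOf e = Nat.card (T : Subgroup G) - 1)
    (hu : orderOf u = 2) (hinv : u * e * u⁻¹ = e⁻¹) {c : G} (hc : c ∈ CT T) :
    ¬ (Nat.card (T : Subgroup G) - 1) ∣ orderOf c := fun hdvd => by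
  obtain ⟨s, hs, hs1⟩ := h.exists_ne_one
  exact h.dich.not_both h.prime h.odd_r he.symm.dvd hdvd hu (h.invol hs hs1) hinv
    ((mem_CT.1 hc) s hs).symm

/-- A two-point stabiliser is `⟨e⟩ × A`, `e` of order `|T| - 1` inverted by the swapping involutions
and `A = D ∩ C(T)` centralised by them. -/
theorem structure_twoStab {y : G ⧸ NH T} (hy : y ≠ pt T) {w : G} (hw : orderOf w = 2)
    (hwy : w • pt T = y) :
    ∃ e ∈ twoStab T y, orderOf e = Nat.card (T : Subgroup G) - 1 ∧ w * e * w⁻¹ = e⁻¹ ∧ e ∉ CT T ∧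
      (∀ a ∈ twoStab T y, a ∈ CT T → Commute e a ∧ Commute w a) ∧
      ∀ d ∈ twoStab T y, ∃ k : ℕ, (e ^ k)⁻¹ * d ∈ CT T := by
  classical
  set r := Nat.card (T : Subgroup G) - 1 with hr
  obtain ⟨s, hs, hs1⟩ := h.exists_ne_one
  have hso := h.invol hs hs1
  set D := twoStab T y with hD
  have hwy' : w • y = pt T := invol_smul_swap hw hwy
  have hcount : Nat.card {t : G // orderOf t = 2 ∧ t ∈ NH T} = r := by
    haveI := Fintype.ofFinite (T : Subgroup G)
    let ev : {t : G // orderOf t = 2 ∧ t ∈ NH T} ≃ {a : (T : Subgroup G) // a ≠ 1} :=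
      { toFun := fun t => ⟨⟨t.1, CAHyp.mem_T_of_sq t.2.2 (invol_mul_self t.2.1)⟩,
          fun e => invol_ne_one t.2.1 (congrArg Subtype.val e)⟩
        invFun := fun a => ⟨a.1.1, h.invol a.1.2 (fun e => a.2 (Subtype.ext e)), CAHyp.T_le_NH a.1.2⟩
        left_inv := fun _ => rfl
        right_inv := fun _ => rfl }
    rw [hr, Nat.card_congr ev, Nat.card_eq_fintype_card, Nat.card_eq_fintype_card,
      Fintype.card_subtype_compl, Fintype.card_subtype_eq]
  let I := {d : G // d ∈ D ∧ w * d * w⁻¹ = d⁻¹}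
  have hsw : ∀ i : G, orderOf i = 2 → i • pt T = y →
      i * w ∈ D ∧ w * (i * w) * w⁻¹ = (i * w)⁻¹ := fun i hi hiy =>
    ⟨mem_twoStab.2 ⟨by rw [mul_smul, hwy, invol_smul_swap hi hiy], by rw [mul_smul, hwy', hiy]⟩,
      by rw [mul_inv_rev, invol_inv hi, mul_assoc, mul_inv_cancel_right, invol_inv hw]⟩
  let f : {i : G // orderOf i = 2 ∧ i • pt T = y} → I := fun i => ⟨i.1 * w, hsw i.1 i.2.1 i.2.2⟩
  have hf : Function.Bijective f := by
    refine ⟨fun i j e => Subtype.ext (mul_right_cancel (congrArg Subtype.val e)), ?_⟩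
    rintro ⟨d, hd, hdi⟩
    have hsm : (d * w) • pt T = y := by rw [mul_smul, hwy, (mem_twoStab.1 hd).2]
    have hsq : d * w * (d * w) = 1 := by
      rw [invol_inv hw] at hdi
      calc d * w * (d * w) = d * (w * d * w) := by group
        _ = 1 := by rw [hdi, mul_inv_cancel]
    refine ⟨⟨d * w, invol_of_mul_self hsq ?_, hsm⟩, Subtype.ext ?_⟩
    · intro e
      rw [e, one_smul] at hsm
      exact hy hsm.symm
    · show d * w * w = d
      rw [mul_assoc, invol_mul_self hw, mul_one]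
  have hI : Nat.card I = r := by
    rw [← Nat.card_congr (Equiv.ofBijective f hf), se_card_swap h.stronglyEmbedded hy.symm, hcount]
  obtain ⟨⟨e, heD, hei⟩, he1⟩ : ∃ d : I, d.1 ≠ 1 := by
    by_contra hc
    push Not at hc
    haveI : Subsingleton I := ⟨fun a b => Subtype.ext ((hc a).trans (hc b).symm)⟩
    have := Finite.card_le_one_iff_subsingleton.2 (inferInstance : Subsingleton I)
    rw [hI] at this
    exact (Nat.Prime.one_lt h.prime).not_ge this
  have hodd := h.odd_orderOf hy heD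
  have her : orderOf e = r := by
    have h1 : e ^ r = 1 := h.eq_one_of_inverted (h.pow_mem_CT hy heD)
      (Odd.of_dvd_nat hodd (orderOf_pow_dvd r)) hw (conj_pow_inv hei r)
    exact ((Nat.dvd_prime h.prime).1 (orderOf_dvd_of_pow_eq_one h1)).resolve_left
      fun e' => he1 (orderOf_eq_one_iff.1 e')
  have heC : e ∉ CT T := fun hc => h.not_dvd_CT hy her hw hei hc her.symm.dvd
  haveI hn := h.normal_CT_sub (X := D) inf_le_left
  have hidx : ((CT T).subgroupOf D).index = r :=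
    h.index_CT inf_le_left fun s hs hs1 t ht ht1 => h.twoStab_trans hy hs hs1 ht ht1
  have hcard : Nat.card (D ⧸ (CT T).subgroupOf D) = r := hidx
  haveI : Fact r.Prime := ⟨h.prime⟩
  have hgen : ∀ d ∈ D, ∃ k : ℕ, (e ^ k)⁻¹ * d ∈ CT T := by
    intro d hd
    have hne : ((⟨e, heD⟩ : D) : D ⧸ (CT T).subgroupOf D) ≠ 1 := fun e1 =>
      heC (Subgroup.mem_subgroupOf.1 ((QuotientGroup.eq_one_iff _).1 e1))
    have hz : ((⟨d, hd⟩ : D) : D ⧸ (CT T).subgroupOf D) ∈
        Submonoid.powers ((⟨e, heD⟩ : D) : D ⧸ (CT T).subgroupOf D) :=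
      mem_powers_of_prime_card hcard hne
    obtain ⟨k, hk⟩ := hz
    refine ⟨k, ?_⟩
    have h2 := (QuotientGroup.mk_pow ((CT T).subgroupOf D) (⟨e, heD⟩ : D) k).trans hk
    simpa [Subgroup.mem_subgroupOf] using QuotientGroup.eq.1 h2
  refine ⟨e, heD, her, hei, heC, fun a ha hac => ?_, hgen⟩
  -- `A` is invariant under `w`
  have hAw : ∀ b ∈ D, b ∈ CT T → w * b * w ∈ D ∧ w * b * w ∈ CT T := by
    intro b hb hbc
    obtain ⟨h1, h2⟩ := mem_twoStab.1 hb
    have hbD : w * b * w ∈ D :=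
      mem_twoStab.2 ⟨by rw [mul_smul, mul_smul, hwy, h2, hwy'],
        by rw [mul_smul, mul_smul, hwy', h1, hwy]⟩
    refine ⟨hbD, ?_⟩
    have h3 := h.pow_mem_CT hy hbD
    have hcop : Nat.Coprime r (orderOf (w * b * w)) := by
      rw [Nat.Prime.coprime_iff_not_dvd h.prime]
      nth_rewrite 2 [← invol_inv hw]
      rw [orderOf_conj_eq]
      exact h.not_dvd_CT hy her hw hei hbc
    obtain ⟨m, hm⟩ := exists_pow_eq_self_of_coprime hcop
    rw [← hm]
    exact pow_mem h3 m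
  have hcomw : ∀ b ∈ D, b ∈ CT T → Commute w b := by
    intro b hb hbc
    obtain ⟨hb1, hb2⟩ := hAw b hb hbc
    have ht := h.eq_one_of_inverted (mul_mem (inv_mem hbc) hb2)
      (h.odd_orderOf hy (mul_mem (inv_mem hb) hb1)) hw (inverted_quot hw b)
    rw [inv_mul_eq_one] at ht
    show w * b = b * w
    calc w * b = w * b * (w * w) := by rw [invol_mul_self hw, mul_one]
      _ = w * b * w * w := by group
      _ = b * w := by rw [← ht]
  have hw' : w⁻¹ = w := invol_inv hw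
  have hcw := hcomw a ha hac
  have hinvc : w * (a * e * a⁻¹) * w⁻¹ = (a * e * a⁻¹)⁻¹ := by
    calc w * (a * e * a⁻¹) * w⁻¹ = w * a * e * a⁻¹ * w⁻¹ := by group
      _ = a * w * e * a⁻¹ * w⁻¹ := by rw [hcw.eq]
      _ = a * (w * e * w⁻¹) * (w * a⁻¹ * w⁻¹) := by group
      _ = a * e⁻¹ * a⁻¹ := by rw [hei, hcw.inv_right.eq, mul_inv_cancel_right]
      _ = _ := by group
  have hmemD : a * e * a⁻¹ ∈ D := mul_mem (mul_mem ha heD) (inv_mem ha)
  obtain ⟨k, hk⟩ : ∃ k : ℕ, e ^ k = a * e * a⁻¹ := by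
    let g : Fin r → I := fun k => ⟨e ^ (k : ℕ), pow_mem heD _, conj_pow_inv hei _⟩
    have hg : Function.Injective g := fun i j eij => Fin.ext
      (pow_injOn_Iio_orderOf (by rw [Set.mem_Iio, her]; exact i.2)
        (by rw [Set.mem_Iio, her]; exact j.2) (congrArg Subtype.val eij))
    have hgb := hg.bijective_of_nat_card_le (by rw [hI, Nat.card_eq_fintype_card, Fintype.card_fin])
    obtain ⟨k, hk⟩ := hgb.2 ⟨_, hmemD, hinvc⟩
    exact ⟨k, congrArg Subtype.val hk⟩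
  -- the commutator lies in `⟨e⟩ ∩ C(T)`
  have hc1 : a * e * a⁻¹ * e⁻¹ ∈ CT T := by
    have := mul_mem hac (CT_conj_mem (m := e) heD.1 (inv_mem hac))
    convert this using 1
    group
  refine ⟨?_, hcw⟩
  rw [← hk] at hc1
  have hpow : e ^ k * e⁻¹ = 1 := by
    by_contra hne
    have hmem : e ^ k * e⁻¹ ∈ Subgroup.zpowers e :=
      mul_mem (Subgroup.npow_mem_zpowers _ _) (inv_mem (Subgroup.mem_zpowers _))
    have hdvd : orderOf (e ^ k * e⁻¹) = r :=
      ((Nat.dvd_prime h.prime).1 ((orderOf_dvd_of_mem_zpowers hmem).trans her.dvd)).resolve_left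
        fun e' => hne (orderOf_eq_one_iff.1 e')
    exact h.not_dvd_CT hy her hw hei hc1 hdvd.symm.dvd
  rw [mul_inv_eq_one, hk, mul_inv_eq_iff_eq_mul] at hpow
  exact hpow.symm

/-- An element of order `|T| - 1` fixing two points is inverted by every involution swapping
them. -/
theorem invert_pt {y : G ⧸ NH T} (hy : y ≠ pt T) {i d : G} (hi : orderOf i = 2)
    (hiy : i • pt T = y) (hd : d ∈ twoStab T y) (hdo : orderOf d = Nat.card (T : Subgroup G) - 1) :
    i * d * i⁻¹ = d⁻¹ := by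
  obtain ⟨e, heD, her, hei, -, hcom, hgen⟩ := h.structure_twoStab hy hi hiy
  obtain ⟨k, hk⟩ := hgen d hd
  have haD : (e ^ k)⁻¹ * d ∈ twoStab T y := mul_mem (inv_mem (pow_mem heD k)) hd
  obtain ⟨hce, -⟩ := hcom _ haD hk
  have ha : (e ^ k)⁻¹ * d = 1 := by
    have hpow : ((e ^ k)⁻¹ * d) ^ (Nat.card (T : Subgroup G) - 1) = 1 := by
      have hc' : Commute (e ^ k)⁻¹ d := by
        have h3 : Commute (e ^ k)⁻¹ (e ^ k * ((e ^ k)⁻¹ * d)) :=
          ((Commute.refl (e ^ k)).inv_left).mul_right (hce.pow_left k).inv_left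
        rwa [mul_inv_cancel_left] at h3
      rw [hc'.mul_pow, inv_pow, ← pow_mul, mul_comm, pow_mul, ← her, pow_orderOf_eq_one, one_pow,
        inv_one, one_mul, her, ← hdo, pow_orderOf_eq_one]
    by_contra hne
    exact h.not_dvd_CT hy her hi hei hk
      (((Nat.dvd_prime h.prime).1 (orderOf_dvd_of_pow_eq_one hpow)).resolve_left
        fun e' => hne (orderOf_eq_one_iff.1 e')).symm.dvd
  rw [← inv_mul_eq_one.1 ha]
  exact conj_pow_inv hei k

theorem invert {x y : G ⧸ NH T} (hxy : x ≠ y) {i d : G} (hi : orderOf i = 2) (hiy : i • x = y)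
    (hdx : d • x = x) (hdy : d • y = y) (hdo : orderOf d = Nat.card (T : Subgroup G) - 1) :
    i * d * i⁻¹ = d⁻¹ := by
  obtain ⟨g, rfl⟩ := QuotientGroup.mk_surjective x
  have hg : g⁻¹ • (g : G ⧸ NH T) = pt T := by rw [← smul_pt, inv_smul_smul]
  have e := h.invert_pt (y := g⁻¹ • y) (i := g⁻¹ * i * g) (d := g⁻¹ * d * g)
    (fun e => hxy (by rw [← smul_pt, ← e, smul_inv_smul]))
    (by rw [orderOf_conj_inv_eq, hi]) (by rw [mul_smul, mul_smul, smul_pt, hiy])
    (mem_twoStab.2 ⟨by rw [mul_smul, mul_smul, smul_pt, hdx, hg],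
      by rw [mul_smul, mul_smul, smul_inv_smul, hdy]⟩) (by rw [orderOf_conj_inv_eq, hdo])
  calc i * d * i⁻¹ = g * (g⁻¹ * i * g * (g⁻¹ * d * g) * (g⁻¹ * i * g)⁻¹) * g⁻¹ := by group
    _ = g * (g⁻¹ * d * g)⁻¹ * g⁻¹ := by rw [e]
    _ = d⁻¹ := by group

/-- An element of order `|T| - 1` fixing two points fixes exactly these. -/
theorem fix_two {y p : G ⧸ NH T} (hy : y ≠ pt T) {d : G} (hd : d ∈ twoStab T y)
    (hdo : orderOf d = Nat.card (T : Subgroup G) - 1) (hdC : d ∉ CT T) (hp : d • p = p) :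
    p = pt T ∨ p = y := by
  by_contra hne
  push Not at hne
  obtain ⟨hp1, hpy⟩ := hne
  obtain ⟨hdx, hdy⟩ := mem_twoStab.1 hd
  obtain ⟨i, hi, hix⟩ := se_swap_exists h.stronglyEmbedded hy.symm
  obtain ⟨j, hj, hjy⟩ := se_swap_exists h.stronglyEmbedded (Ne.symm hpy)
  obtain ⟨k, hk, hkp⟩ := se_swap_exists h.stronglyEmbedded hp1
  have e1 := h.invert hy.symm hi hix hdx hdy hdo
  have e2 := h.invert (Ne.symm hpy) hj hjy hdy hp hdo
  have e3 := h.invert hp1 hk hkp hp hdx hdo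
  have hg : k * j * i ∈ NH T := smul_pt_iff.1 (by rw [mul_smul, mul_smul, hix, hjy, hkp])
  have hinv : (k * j * i) * d * (k * j * i)⁻¹ = d⁻¹ := by
    calc _ = k * (j * (i * d * i⁻¹) * j⁻¹) * k⁻¹ := by group
      _ = k * (j * d * j⁻¹)⁻¹ * k⁻¹ := by rw [e1]; group
      _ = k * d * k⁻¹ := by rw [e2, inv_inv]
      _ = d⁻¹ := e3
  haveI := h.normal_CT_sub (X := NH T) le_rfl
  haveI : Fact (Nat.card (T : Subgroup G) - 1).Prime := ⟨h.prime⟩
  have hcard : Nat.card (NH T ⧸ (CT T).subgroupOf (NH T)) = Nat.card (T : Subgroup G) - 1 :=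
    h.index_CT le_rfl h.trans_NH
  haveI : IsCyclic (NH T ⧸ (CT T).subgroupOf (NH T)) := isCyclic_of_prime_card hcard
  have hd' : d ∈ NH T := hd.1
  have hcomm : (((⟨_, hg⟩ : NH T) * ⟨d, hd'⟩ * (⟨_, hg⟩ : NH T)⁻¹ : NH T) :
      NH T ⧸ (CT T).subgroupOf (NH T)) = ((⟨d, hd'⟩ : NH T) : NH T ⧸ (CT T).subgroupOf (NH T)) := by
    simp only [QuotientGroup.mk_mul, QuotientGroup.mk_inv]
    letI : CommGroup (NH T ⧸ (CT T).subgroupOf (NH T)) := IsCyclic.commGroup
    exact mul_inv_cancel_comm _ _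
  have hmem := QuotientGroup.eq.1 hcomm
  rw [Subgroup.mem_subgroupOf] at hmem
  simp only [Subgroup.coe_mul, Subgroup.coe_inv] at hmem
  rw [hinv, inv_inv] at hmem
  -- `d * d ∈ C(T)`
  have hk2 : Nat.Coprime 2 (orderOf d) := Nat.coprime_two_left.2 (h.odd_orderOf hy hd)
  obtain ⟨m, hm⟩ := exists_pow_eq_self_of_coprime hk2
  exact hdC (by rw [← hm, pow_two]; exact pow_mem hmem m)

/-- An element commuting with such an `e` fixes both its points. -/
theorem mem_twoStab_of_commute {y : G ⧸ NH T} (hy : y ≠ pt T) {w e c : G} (hw : orderOf w = 2)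
    (hinv : w * e * w⁻¹ = e⁻¹) (he : e ∈ twoStab T y)
    (her : orderOf e = Nat.card (T : Subgroup G) - 1) (heC : e ∉ CT T) (hc : Commute c e) :
    c ∈ twoStab T y := by
  obtain ⟨hex, hey⟩ := mem_twoStab.1 he
  have hco : Odd (orderOf c) := by
    rw [← Nat.not_even_iff_odd]
    intro hev
    obtain ⟨m, hm⟩ := hev
    have hc0 := orderOf_pos c
    have hz : orderOf (c ^ m) = 2 := by
      rw [orderOf_pow_of_dvd (by omega) ⟨2, by omega⟩, hm, show m + m = 2 * m by omega,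
        Nat.mul_div_cancel _ (by omega)]
    exact h.dich.not_both h.prime h.odd_r her.symm.dvd her.symm.dvd hw hz hinv (hc.pow_left m)
  have hfix : ∀ q : G ⧸ NH T, e • q = q → e • c • q = c • q := fun q hq => by
    rw [← mul_smul, ← hc.eq, mul_smul, hq]
  have hsq : c ^ 2 • pt T = pt T ∧ c ^ 2 • y = y := by
    rw [pow_two, mul_smul, mul_smul]
    rcases h.fix_two hy he her heC (hfix _ hex) with e1 | e1
    · rcases h.fix_two hy he her heC (hfix _ hey) with e2 | e2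
      · exact absurd (MulAction.injective c (e2.trans e1.symm)) hy
      · exact ⟨by rw [e1, e1], by rw [e2, e2]⟩
    · rcases h.fix_two hy he her heC (hfix _ hey) with e2 | e2
      · exact ⟨by rw [e1, e2], by rw [e2, e1]⟩
      · exact absurd (MulAction.injective c (e2.trans e1.symm)) hy
  obtain ⟨m, hm⟩ := exists_pow_eq_self_of_coprime (Nat.coprime_two_left.2 hco)
  rw [← hm]
  exact pow_mem (mem_twoStab.2 hsq) m

/-- `N(T)` is transitive on the other points. -/
theorem transitive {y z : G ⧸ NH T} (hy : y ≠ pt T) (hz : z ≠ pt T) :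
    ∃ m ∈ NH T, m • z = y := by
  obtain ⟨w, hw, hwy⟩ := se_swap_exists h.stronglyEmbedded hy.symm
  obtain ⟨v, hv, hvz⟩ := se_swap_exists h.stronglyEmbedded hz.symm
  obtain ⟨e, he, her, hei, heC, -, -⟩ := h.structure_twoStab hy hw hwy
  obtain ⟨e', he', her', -, -, -, -⟩ := h.structure_twoStab hz hv hvz
  set r := Nat.card (T : Subgroup G) - 1 with hr
  haveI : Fact r.Prime := ⟨h.prime⟩
  have hval : (Nat.card (NH T)).factorization r = 1 := by
    have h1 := ((CT T).subgroupOf (NH T)).card_mul_index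
    rw [h.index_CT le_rfl h.trans_NH, Nat.card_congr (subgroupOfEquivOfLe CT_le_NH).toEquiv] at h1
    have hnd : ¬ r ∣ Nat.card (CT T) := fun hd => by
      obtain ⟨c, hc⟩ := exists_prime_orderOf_dvd_card' r hd
      exact h.not_dvd_CT hy her hw hei c.2 (by rw [Subgroup.orderOf_coe, hc])
    rw [← h1, Nat.factorization_mul Nat.card_pos.ne' h.prime.ne_zero, Finsupp.add_apply,
      Nat.factorization_eq_zero_of_not_dvd hnd, h.prime.factorization_self, zero_add]
  have hz1 : ∀ a : NH T, orderOf a = r → Nat.card (Subgroup.zpowers a) =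
      r ^ (Nat.card (NH T)).factorization r := fun a ha => by
    rw [Nat.card_zpowers, ha, hval, pow_one]
  have ho : ∀ a : G, ∀ ha : a ∈ NH T, orderOf (⟨a, ha⟩ : NH T) = orderOf a := fun a ha => by
    rw [← Subgroup.orderOf_coe]
  let S₁ : Sylow r (NH T) := Sylow.ofCard _ (hz1 ⟨e', he'.1⟩ (by rw [ho, her']))
  let S₂ : Sylow r (NH T) := Sylow.ofCard _ (hz1 ⟨e, he.1⟩ (by rw [ho, her]))
  obtain ⟨m, hm⟩ := MulAction.exists_smul_eq (NH T) S₁ S₂
  have hmem : m * ⟨e', he'.1⟩ * m⁻¹ ∈ Subgroup.zpowers (⟨e, he.1⟩ : NH T) := by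
    have hS : ((m • S₁ : Sylow r (NH T)) : Subgroup (NH T)) = (S₂ : Subgroup (NH T)) := by rw [hm]
    have : m * ⟨e', he'.1⟩ * m⁻¹ ∈ ((m • S₁ : Sylow r (NH T)) : Subgroup (NH T)) := by
      rw [Sylow.coe_subgroup_smul]
      exact Subgroup.smul_mem_pointwise_smul _ _ _ (Subgroup.mem_zpowers _)
    rw [hS] at this
    exact this
  obtain ⟨j, hj⟩ := hmem
  have hj' : (m : G) * e' * (m : G)⁻¹ = e ^ j := by
    simpa using (congrArg Subtype.val hj).symm
  refine ⟨m, m.2, ?_⟩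
  have hfix : (m : G) * e' * (m : G)⁻¹ ∈ twoStab T y := hj' ▸ zpow_mem he j
  have hmy : ((m : G) * e' * (m : G)⁻¹) • (m : G) • z = (m : G) • z := by
    rw [← mul_smul, inv_mul_cancel_right, mul_smul, (mem_twoStab.1 he').2]
  have hne : ((m : G) * e' * (m : G)⁻¹) ∉ CT T := fun hc =>
    h.not_dvd_CT hy her hw hei hc (by rw [orderOf_conj_eq, her'])
  refine (h.fix_two hy hfix (by rw [orderOf_conj_eq, her']) hne hmy).resolve_left fun e1 => hz ?_
  exact MulAction.injective (m : G) (e1.trans (smul_pt_iff.2 m.2).symm)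

end Ctx

end CfsgLib.EqOrder
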