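import Cfsg.Agent.Lib.EqOrder.Main
import Cfsg.Agent.Lib.Classical.SLTwoSylow
import Cfsg.Agent.Lib.KnownC.FieldAut
import Cfsg.Agent.S4020
import Cfsg.Prelude.Def_Perm

/-!
# Consequences of the conjugacy of subgroups of equal order
-/

set_option autoImplicit false
set_option linter.unusedSectionVars false
set_option linter.style.haveILetI false

namespace CfsgLib.EqOrder

open Subgroup CfsgLib.Invol
open scoped MatrixGroups

/-- Any two subgroups of the same order are conjugate. -/
def EqConj (G : Type*) [Group G] : Prop :=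
  ∀ H K : Subgroup G, Nat.card H = Nat.card K → ∃ g : G, K = H.map (MulAut.conj g).toMonoidHom

variable {G : Type*} [Group G] [Finite G]

theorem card_sup_of_disjoint {K A : Subgroup G} (hn : A ≤ normalizer (K : Set G)) (hd : K ⊓ A = ⊥) :
    Nat.card (K ⊔ A : Subgroup G) = Nat.card K * Nat.card A := by
  have h1 : K.relIndex (K ⊔ A) = K.relIndex A := by
    haveI : (K.subgroupOf (normalizer (K : Set G))).Normal := normal_in_normalizer
    rw [← relIndex_subgroupOf (sup_le le_normalizer hn), ← relIndex_subgroupOf hn,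
      subgroupOf_sup le_normalizer hn, relIndex_sup_left]
  have h2 : Nat.card (K ⊔ A : Subgroup G) = Nat.card K * K.relIndex A := by
    rw [← h1, ← relIndex_bot_left, ← relIndex_bot_left,
      relIndex_mul_relIndex ⊥ K _ bot_le le_sup_left]
  rw [h2, ← inf_relIndex_right K A, hd, relIndex_bot_left]

theorem inf_eq_bot_of_coprime {K A : Subgroup G} (h : (Nat.card K).Coprime (Nat.card A)) :
    K ⊓ A = ⊥ :=
  Subgroup.inf_eq_bot_of_coprime h

theorem oddCore_eq_bot_of_normal (hO : Cfsg.oddCore G = ⊥) (G₁ : Subgroup G) [G₁.Normal] :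
    Cfsg.oddCore G₁ = ⊥ := by
  haveI : (Cfsg.oddCore G₁).Characteristic := CfsgLib.Solvable.pPrimeCore_characteristic 2 G₁
  have hn : ((Cfsg.oddCore G₁).map G₁.subtype).Normal := inferInstance
  have hle := le_oddCore hn (by
    rw [card_map_of_injective G₁.subtype_injective]; exact odd_card_oddCore G₁)
  rw [hO, le_bot_iff, Subgroup.map_eq_bot_iff_of_injective _ G₁.subtype_injective] at hle
  exact hle

theorem odd_index_sylow_two (T : Sylow 2 G) : Odd (T : Subgroup G).index := by
  haveI : Fact (Nat.Prime 2) := ⟨Nat.prime_two⟩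
  exact Nat.not_even_iff_odd.1 fun h => T.not_dvd_index (even_iff_two_dvd.1 h)

theorem commutative_of_isCyclic {K : Type*} [Group K] [IsCyclic K] (a b : K) : a * b = b * a := by
  letI : CommGroup K := IsCyclic.commGroup
  exact mul_comm a b

/-- In the normalizer of a cyclic Sylow `p`-subgroup, `(p - 1)`-th powers centralise it. -/
theorem pow_pred_mem_centralizer {p : ℕ} [Fact p.Prime] (S : Sylow p G) [IsCyclic S] {x : G}
    (hx : x ∈ normalizer ((S : Subgroup G) : Set G)) :
    x ^ (p - 1) ∈ centralizer ((S : Subgroup G) : Set G) := by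
  classical
  set N := normalizer ((S : Subgroup G) : Set G)
  set φ := (S : Subgroup G).normalizerMonoidHom
  haveI : Finite (MulAut (S : Subgroup G)) :=
    Finite.of_injective (fun f : MulAut (S : Subgroup G) => ⇑f) DFunLike.coe_injective
  obtain ⟨k, hk⟩ := (IsPGroup.iff_card).1 S.2
  have hdvd : Nat.card φ.range ∣ p - 1 := by
    have h1 : Nat.card φ.range ∣ p ^ k * (p - 1) := by
      refine (Subgroup.card_subgroup_dvd_card φ.range).trans ?_
      rw [Nat.card_congr (IsCyclic.mulAutMulEquiv (S : Subgroup G)).toEquiv, hk]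
      haveI : NeZero (p ^ k) := ⟨(pow_pos (Fact.out : p.Prime).pos k).ne'⟩
      rw [Nat.card_eq_fintype_card, ZMod.card_units_eq_totient]
      rcases Nat.eq_zero_or_pos k with rfl | hk0
      · simp
      rw [Nat.totient_prime_pow (Fact.out : p.Prime) hk0]
      exact mul_dvd_mul_right (pow_dvd_pow p (Nat.sub_le k 1)) _
    have h2 : Nat.card φ.range ∣ (S : Subgroup G).index := by
      rw [← Subgroup.index_ker, normalizerMonoidHom_ker]
      refine (Subgroup.index_dvd_of_le (H := (S : Subgroup G).subgroupOf N) ?_).trans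
        (Dvd.intro _ (Subgroup.relIndex_mul_index (H := (S : Subgroup G)) Subgroup.le_normalizer))
      · intro a ha
        refine Subgroup.mem_subgroupOf.2 (mem_centralizer_iff.2 fun b hb => ?_)
        exact congrArg Subtype.val (commutative_of_isCyclic (⟨b, hb⟩ : (S : Subgroup G)) ⟨a, ha⟩)
    refine Nat.Coprime.dvd_of_dvd_mul_left ?_ h1
    exact (Nat.Coprime.coprime_dvd_left h2
      ((Nat.Prime.coprime_iff_not_dvd Fact.out).2 S.not_dvd_index).symm).pow_right k
  obtain ⟨c, hc⟩ := hdvd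
  have h3 : φ (⟨x, hx⟩ ^ (p - 1)) = 1 := by
    have := pow_card_eq_one' (x := φ.rangeRestrict ⟨x, hx⟩)
    rw [hc, pow_mul, map_pow]
    have h4 : φ ⟨x, hx⟩ ^ Nat.card φ.range = 1 := congrArg Subtype.val this
    rw [map_pow, h4, one_pow]
  have h5 : (⟨x, hx⟩ : N) ^ (p - 1) ∈ φ.ker := h3
  rw [normalizerMonoidHom_ker] at h5
  exact Subgroup.mem_subgroupOf.1 h5

/-- A cyclic Sylow 2-subgroup has a normal complement. -/
theorem exists_compl_of_cyclic_two (P : Sylow 2 G) [IsCyclic P] :
    ∃ W : Subgroup G, W.Normal ∧ Odd (Nat.card W) ∧ W.index = Nat.card (P : Subgroup G) := by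
  haveI : Fact (Nat.Prime 2) := ⟨Nat.prime_two⟩
  have hN : normalizer ((P : Subgroup G) : Set G) ≤ centralizer ((P : Subgroup G) : Set G) :=
    fun x hx => by simpa using pow_pred_mem_centralizer P hx
  have hco := MonoidHom.ker_transferSylow_isComplement' P hN
  refine ⟨_, MonoidHom.normal_ker _, ?_, hco.symm.index_eq_card⟩
  rw [← hco.index_eq_card]
  exact odd_index_sylow_two P

namespace EqConj

variable (h : EqConj G)
include h

theorem quotient (N : Subgroup G) [N.Normal] : EqConj (G ⧸ N) := by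
  intro A B hAB
  have hc : ∀ X : Subgroup (G ⧸ N),
      Nat.card (X.comap (QuotientGroup.mk' N)) = Nat.card N * Nat.card X := fun X => by
    have h1 := (X.comap (QuotientGroup.mk' N)).card_mul_index
    rw [Subgroup.index_comap_of_surjective _ (QuotientGroup.mk'_surjective N),
      N.card_eq_card_quotient_mul_card_subgroup, ← X.card_mul_index] at h1
    exact Nat.eq_of_mul_eq_mul_right (Nat.pos_of_ne_zero X.index_ne_zero_of_finite) (by rw [h1]; ring)
  obtain ⟨g, hg⟩ := h (A.comap (QuotientGroup.mk' N)) (B.comap (QuotientGroup.mk' N))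
    (by rw [hc A, hc B, hAB])
  refine ⟨g, ?_⟩
  conv_lhs => rw [← Subgroup.map_comap_eq_self_of_surjective (QuotientGroup.mk'_surjective N) B, hg,
    Subgroup.map_map]
  conv_rhs => rw [← Subgroup.map_comap_eq_self_of_surjective (QuotientGroup.mk'_surjective N) A,
    Subgroup.map_map]
  congr 1

theorem pVersion (p : ℕ) (_hp : p.Prime) : ∀ H K : Subgroup G, IsPGroup p H → IsPGroup p K →
    Nat.card H = Nat.card K → ∃ g : G, K = H.map (MulAut.conj g).toMonoidHom :=
  fun H K _ _ hHK => h H K hHK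

theorem conj_invol {a b : G} (ha : orderOf a = 2) (hb : orderOf b = 2) :
    ∃ g : G, g * a * g⁻¹ = b := by
  obtain ⟨g, hg⟩ := h (zpowers a) (zpowers b) (by rw [Nat.card_zpowers, Nat.card_zpowers, ha, hb])
  have hmem : g * a * g⁻¹ ∈ zpowers b := hg ▸ ⟨a, mem_zpowers a, rfl⟩
  obtain ⟨k, hk⟩ := hmem
  refine ⟨g, ?_⟩
  rw [← hk]
  rcases Int.even_or_odd k with ⟨m, rfl⟩ | ⟨m, rfl⟩
  · exfalso
    have h1 : g * a * g⁻¹ = 1 := by
      rw [← hk]
      show b ^ (m + m) = 1
      rw [zpow_add, ← (Commute.refl b).mul_zpow, invol_mul_self hb, one_zpow]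
    rw [← orderOf_eq_one_iff, orderOf_conj_eq, ha] at h1
    omega
  · show b ^ (2 * m + 1) = b
    rw [zpow_add, zpow_mul, show b ^ (2 : ℤ) = 1 by rw [zpow_two, invol_mul_self hb], one_zpow, one_mul,
      zpow_one]

theorem dich : Dich G := by
  intro p hp ho x y u v hx hy hu hv hinv hc
  have hn : zpowers u ≤ normalizer ((zpowers x : Subgroup G) : Set G) := by
    rw [zpowers_le, Subgroup.mem_normalizer_iff]
    have key : ∀ a ∈ zpowers x, u * a * u⁻¹ ∈ zpowers x := by
      rintro _ ⟨i, rfl⟩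
      show u * x ^ i * u⁻¹ ∈ zpowers x
      rw [← conj_zpow, hinv]
      exact zpow_mem (inv_mem (mem_zpowers x)) i
    refine fun a => ⟨key a, fun ha => ?_⟩
    have := key _ ha
    rwa [invol_inv hu, show u * (u * a * u) * u = (u * u) * a * (u * u) by group, invol_mul_self hu,
      one_mul, mul_one] at this
  have hcard : Nat.card (zpowers x ⊔ zpowers u : Subgroup G) = Nat.card (zpowers (v * y)) := by
    rw [card_sup_of_disjoint hn (inf_eq_bot_of_coprime (by
      rw [Nat.card_zpowers, Nat.card_zpowers, hx, hu]; exact Nat.coprime_two_right.2 ho)),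
      Nat.card_zpowers, Nat.card_zpowers, Nat.card_zpowers, hx, hu,
      hc.orderOf_mul_eq_mul_orderOf_of_coprime (by rw [hv, hy]; exact Nat.coprime_two_left.2 ho),
      hv, hy, mul_comm]
  obtain ⟨g, hg⟩ := h _ _ hcard.symm
  have hxu : Commute x u := by
    have h1 : x ∈ (zpowers (v * y)).map (MulAut.conj g).toMonoidHom :=
      hg ▸ Subgroup.mem_sup_left (mem_zpowers x)
    have h2 : u ∈ (zpowers (v * y)).map (MulAut.conj g).toMonoidHom :=
      hg ▸ Subgroup.mem_sup_right (mem_zpowers u)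
    obtain ⟨_, ⟨i, rfl⟩, rfl⟩ := h1
    obtain ⟨_, ⟨j, rfl⟩, rfl⟩ := h2
    exact ((Commute.refl (v * y)).zpow_zpow i j).map (MulAut.conj g).toMonoidHom
  rw [hxu.symm.eq, mul_inv_cancel_right] at hinv
  have : x = 1 := eq_one_of_sq (by nth_rewrite 1 [hinv]; exact inv_mul_cancel x) (hx ▸ ho)
  rw [this, orderOf_one] at hx
  exact hp.one_lt.ne hx

/-- The Sylow subgroups of odd order are abelian. -/
theorem ab {p : ℕ} (hp : p.Prime) (ho : Odd p) (Q : Subgroup G) (hQ : IsPGroup p Q) :
    ∀ a ∈ Q, ∀ b ∈ Q, Commute a b := by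
  haveI := Fact.mk hp
  obtain ⟨S, hS⟩ := hQ.exists_le_sylow
  intro a ha b hb
  rcases Cfsg.Agent.S4020.result h.pVersion S with hc | he | ⟨⟨e⟩⟩
  · exact congrArg Subtype.val (commutative_of_isCyclic (⟨a, hS ha⟩ : (S : Subgroup G)) ⟨b, hS hb⟩)
  · exact congrArg Subtype.val (he.1.is_comm.comm (⟨a, hS ha⟩ : (S : Subgroup G)) ⟨b, hS hb⟩)
  · exfalso
    obtain ⟨k, hk⟩ := IsPGroup.iff_card.1 S.2
    rw [Nat.card_congr e.toEquiv, Nat.card_eq_fintype_card, QuaternionGroup.card] at hk
    have h2 : 2 ∣ p := Nat.prime_two.dvd_of_dvd_pow (show 2 ∣ p ^ k from ⟨4, by omega⟩)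
    exact Nat.not_even_iff_odd.2 ho (even_iff_two_dvd.2 h2)

end EqConj

/-! ### Special linear groups -/

theorem sl_two_center {F : Type*} [Field F] [CharP F 2] : Subgroup.center SL(2, F) = ⊥ := by
  refine eq_bot_iff.2 fun A hA => ?_
  rw [Matrix.SpecialLinearGroup.mem_center_iff] at hA
  obtain ⟨r, hr, hA⟩ := hA
  rw [Fintype.card_fin] at hr
  have hr1 : r = 1 := by
    rcases sq_eq_one_iff.1 hr with h | h
    · exact h
    · rw [h, CharTwo.neg_eq]
  refine mem_bot.2 (Subtype.ext ?_)
  rw [← hA, hr1, map_one]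
  rfl

theorem nonempty_sl_psl_of_card {F : Type*} [Field F] [Fintype F] [CharP F 2] {K : Type*} [Field K]
    [Fintype K] (h : Fintype.card F = Fintype.card K) :
    Nonempty (SL(2, F) ≃* Matrix.ProjectiveSpecialLinearGroup (Fin 2) K) := by
  let e : F ≃+* K := FiniteField.ringEquivOfCardEq h
  haveI : CharP K 2 := charP_of_injective_ringHom (f := (e : F →+* K)) e.injective 2
  let φ : SL(2, F) ≃* SL(2, K) :=
    { Matrix.SpecialLinearGroup.map (e : F →+* K) with
      invFun := Matrix.SpecialLinearGroup.map (e.symm : K →+* F)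
      left_inv := fun A => Subtype.ext (by ext i j; exact e.symm_apply_apply _)
      right_inv := fun A => Subtype.ext (by ext i j; exact e.apply_symm_apply _) }
  exact ⟨φ.trans (QuotientGroup.quotientBot.symm.trans
    (QuotientGroup.quotientMulEquivOfEq (sl_two_center (F := K)).symm))⟩

/-- The size of the field is the order of a Sylow 2-subgroup. -/
theorem IsSLTwo.exists_card (hG : IsSLTwo G) (T : Sylow 2 G) :
    ∃ (F : Type) (_ : Field F) (_ : Fintype F), CharP F 2 ∧ Nonempty (G ≃* SL(2, F)) ∧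
      Fintype.card F = Nat.card (T : Subgroup G) ∧
      Nat.card G = Fintype.card F * (Fintype.card F ^ 2 - 1) := by
  obtain ⟨F, iF, iFF, h2, ⟨e⟩⟩ := hG
  haveI : Fact (Nat.Prime 2) := ⟨Nat.prime_two⟩
  have hG' : Nat.card G = Fintype.card F * (Fintype.card F ^ 2 - 1) := by
    rw [Nat.card_congr e.toEquiv, CfsgLib.Classical.card_sl_two_eq]
  refine ⟨F, iF, iFF, h2, ⟨e⟩, ?_, hG'⟩
  obtain ⟨P, hP⟩ := CfsgLib.Classical.exists_sylow_uSL (F := F) 2
  rw [T.card_eq_multiplicity, Nat.card_congr e.toEquiv, ← P.card_eq_multiplicity, hP,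
    CfsgLib.Classical.card_uSL, Nat.card_eq_fintype_card]

theorem card_galoisField_two {n : ℕ} (hn : n ≠ 0) [Fintype (GaloisField 2 n)] :
    Fintype.card (GaloisField 2 n) = 2 ^ n := by
  rw [← Nat.card_eq_fintype_card, GaloisField.card 2 n hn]

/-! ### The one-dimensional affine groups -/

section Affine

variable {R : Type*} [Field R]

theorem addRight_mem_affine (b : R) : Equiv.addRight b ∈ Cfsg.affineGroup R :=
  ⟨1, b, fun x => by simp⟩

theorem addRight_mem_semiaffine (b : R) : Equiv.addRight b ∈ Cfsg.semiaffineGroup R :=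
  ⟨1, b, RingEquiv.refl R, fun x => by simp⟩

theorem card_affine [Fintype R] :
    Nat.card (Cfsg.affineGroup R) = Fintype.card R * (Fintype.card R - 1) := by
  let f : Rˣ × R → Cfsg.affineGroup R := fun p =>
    ⟨(p.1.mulLeft).trans (Equiv.addRight p.2), ⟨p.1, p.2, fun x => rfl⟩⟩
  have hf : Function.Bijective f := by
    refine ⟨fun p q h => ?_, ?_⟩
    · have h' : ∀ x : R, (p.1 : R) * x + p.2 = (q.1 : R) * x + q.2 := fun x =>
        congrArg (fun σ : Cfsg.affineGroup R => (σ : Equiv.Perm R) x) h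
      have h0 : p.2 = q.2 := by simpa using h' 0
      exact Prod.ext (Units.ext (by simpa [h0] using h' 1)) h0
    · rintro ⟨σ, a, b, hσ⟩
      exact ⟨(a, b), Subtype.ext (Equiv.ext fun x => (hσ x).symm)⟩
  rw [← Nat.card_congr (Equiv.ofBijective f hf), Nat.card_prod, Nat.card_units,
    Nat.card_eq_fintype_card, mul_comm]

theorem card_semiaffine [Fintype R] {f : ℕ} (hR : Fintype.card R = 2 ^ f) :
    Nat.card (Cfsg.semiaffineGroup R) = Fintype.card R * ((Fintype.card R - 1) * f) := by
  haveI : Fact (Nat.Prime 2) := ⟨Nat.prime_two⟩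
  let g : Rˣ × R × (R ≃+* R) → Cfsg.semiaffineGroup R := fun p =>
    ⟨(p.2.2.toEquiv).trans ((p.1.mulLeft).trans (Equiv.addRight p.2.1)),
      ⟨p.1, p.2.1, p.2.2, fun x => rfl⟩⟩
  have hg : Function.Bijective g := by
    refine ⟨fun p q h => ?_, ?_⟩
    · have h' : ∀ x : R, (p.1 : R) * p.2.2 x + p.2.1 = (q.1 : R) * q.2.2 x + q.2.1 := fun x =>
        congrArg (fun σ : Cfsg.semiaffineGroup R => (σ : Equiv.Perm R) x) h
      have h0 : p.2.1 = q.2.1 := by simpa using h' 0
      have h1 : p.1 = q.1 := Units.ext (by simpa [h0] using h' 1)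
      refine Prod.ext h1 (Prod.ext h0 (RingEquiv.ext fun x => ?_))
      have := h' x
      rw [h0, h1] at this
      exact mul_left_cancel₀ q.1.ne_zero (add_right_cancel this)
    · rintro ⟨σ, a, b, φ, hσ⟩
      exact ⟨(a, b, φ), Subtype.ext (Equiv.ext fun x => (hσ x).symm)⟩
  rw [← Nat.card_congr (Equiv.ofBijective g hg), Nat.card_prod, Nat.card_prod, Nat.card_units,
    (CfsgLib.KnownC.exists_zmod_mulEquiv_ringAut hR).1, Nat.card_eq_fintype_card]
  ring

end Affine

end CfsgLib.EqOrder
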