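import Cfsg.Agent.Lib.EqOrder.Semi
import Cfsg.Agent.Lib.ClassK.SmallSimple
import Cfsg.Agent.Lib.Invol.BrauerSuzuki
import Cfsg.Agent.S0106
import Cfsg.Agent.S0228
import Cfsg.Agent.S0494
import Cfsg.Agent.S3378
import Cfsg.Agent.S4025

/-!
# Groups in which subgroups of equal order are conjugate, modulo the odd core
-/

set_option autoImplicit false
set_option linter.unusedSectionVars false
set_option linter.style.haveILetI false

namespace CfsgLib.EqOrder

open Subgroup CfsgLib.Invol
open scoped MatrixGroups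

universe u

/-- The list. -/
def InList (H : Type*) [Group H] : Prop :=
  (IsCyclic H ∧ IsPGroup 2 H) ∨
  Nonempty (H ≃* Cfsg.affineGroup (GaloisField 2 3)) ∨
  Nonempty (H ≃* Cfsg.semiaffineGroup (GaloisField 2 3)) ∨
  Nonempty (H ≃* Cfsg.semiaffineGroup (GaloisField 2 5)) ∨
  Nonempty (H ≃* Matrix.ProjectiveSpecialLinearGroup (Fin 2) (GaloisField 2 3)) ∨
  Nonempty (H ≃* MulAut (Matrix.ProjectiveSpecialLinearGroup (Fin 2) (GaloisField 2 5))) ∨
  Nonempty (H ≃* alternatingGroup (Fin 4)) ∨
  Nonempty (H ≃* alternatingGroup (Fin 5)) ∨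
  Nonempty (H ≃* Matrix.SpecialLinearGroup (Fin 2) (ZMod 3)) ∨
  Nonempty (H ≃* Matrix.SpecialLinearGroup (Fin 2) (ZMod 5))

theorem not_isSolvable_alt_five : ¬ Group.IsSolvable (alternatingGroup (Fin 5)) := by
  haveI : IsSimpleGroup (alternatingGroup (Fin 5)) := alternatingGroup.isSimpleGroup (by simp)
  intro hs
  have hc := IsSimpleGroup.comm_iff_isSolvable.2 hs
  have key : ∃ a b : alternatingGroup (Fin 5), a * b ≠ b * a :=
    ⟨⟨Equiv.swap 0 1 * Equiv.swap 1 2, Equiv.Perm.mem_alternatingGroup.2 (by decide)⟩,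
      ⟨Equiv.swap 1 2 * Equiv.swap 2 3, Equiv.Perm.mem_alternatingGroup.2 (by decide)⟩, by decide⟩
  obtain ⟨a, b, hab⟩ := key
  exact hab (hc a b)

variable {H : Type*} [Group H] [Finite H]

/-- A four-group Sylow 2-subgroup. -/
theorem four_case {T : Sylow 2 H} (h : Base T) (h4 : Nat.card (T : Subgroup H) = 4) :
    (Nonempty (H ≃* alternatingGroup (Fin 4)) ∧ Nat.card H = 12) ∨
      (Nonempty (H ≃* alternatingGroup (Fin 5)) ∧ Nat.card H = 60) := by
  classical
  haveI : Fact (Nat.Prime 2) := ⟨Nat.prime_two⟩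
  have hidx := h.index_CN_four h4
  by_cases hn : (T : Subgroup H).Normal
  · left
    have htop : NH T = ⊤ := Subgroup.normalizer_eq_top_iff.2 hn
    have hCT := h.CT_eq_of_normal hn
    have hcard : Nat.card H = 12 := by
      have h1 := (CN T).card_mul_index
      rw [hidx, Nat.card_congr (subgroupOfEquivOfLe CT_le_NH).toEquiv, hCT, h4] at h1
      rw [htop, Subgroup.card_top] at h1
      exact h1.symm
    refine ⟨Cfsg.Agent.S0228.result hcard fun z hz hzc => ?_, hcard⟩
    obtain ⟨g, hg⟩ := exists_conj_invol_mem_sylow T hz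
    rw [Subgroup.mem_center_iff.1 hzc g, mul_inv_cancel_right] at hg
    have hz1 := invol_ne_one hz
    obtain ⟨t, ht, ht1, htz⟩ : ∃ t ∈ (T : Subgroup H), t ≠ 1 ∧ t ≠ z := by
      by_contra hne
      push Not at hne
      have hle : (T : Subgroup H) ≤ zpowers z := fun t ht => by
        by_cases ht1 : t = 1
        · rw [ht1]; exact one_mem _
        · rw [hne t ht ht1]; exact mem_zpowers z
      have := Subgroup.card_le_of_le hle
      rw [h4, Nat.card_zpowers, hz] at this
      omega
    obtain ⟨d, -, hd⟩ := h.trans hg hz1 ht ht1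
    rw [Subgroup.mem_center_iff.1 hzc d, mul_inv_cancel_right] at hd
    exact htz hd.symm
  · right
    have hsl := h.sl_two hn (by rw [h4]; norm_num) (by rw [hidx, h4])
    obtain ⟨F, iF, iFF, h2, ⟨e⟩, hF, hHc⟩ := hsl.exists_card T
    rw [h4] at hF
    rw [hF] at hHc
    obtain ⟨ψ⟩ := nonempty_sl_psl_of_card (F := F) (K := F) rfl
    haveI := CfsgLib.ClassK.isSimpleGroup_psl_two (F := F) hF.ge
    haveI : IsSimpleGroup H := (e.trans ψ).isSimpleGroup
    exact ⟨Cfsg.Agent.S0494.result hHc, hHc⟩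

theorem isSolvable_normalizer (T : Sylow 2 H) (hsq : ∀ a ∈ (T : Subgroup H), a * a = 1) :
    Group.IsSolvable (NH T) := by
  set TN := (T : Subgroup H).subgroupOf (NH T)
  haveI : TN.Normal := ⟨fun a ha g => (Subgroup.mem_normalizer_iff.1 g.2 a).1 ha⟩
  haveI : Group.IsSolvable TN := Group.isSolvable_of_comm fun a b => by
    have hinv : ∀ c : TN, c⁻¹ = c := fun c =>
      inv_eq_of_mul_eq_one_right (Subtype.ext (Subtype.ext (hsq _ (Subgroup.mem_subgroupOf.1 c.2))))
    rw [← hinv (a * b), mul_inv_rev, hinv, hinv]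
  haveI : Group.IsSolvable (NH T ⧸ TN) := CfsgLib.FT.odd_order_solvable
    (Odd.of_dvd_nat (odd_index_sylow_two T)
      (Dvd.intro _ (Subgroup.relIndex_mul_index (H := (T : Subgroup H)) Subgroup.le_normalizer)))
  exact Group.isSolvable_of_ker_le_range TN.subtype (QuotientGroup.mk' TN) (by simp)

/-- An elementary abelian Sylow 2-subgroup of order at least four. -/
theorem elem_case {T : Sylow 2 H} (h : Base T) : InList H := by
  classical
  haveI : Fact (Nat.Prime 2) := ⟨Nat.prime_two⟩
  obtain ⟨n, hn⟩ := IsPGroup.iff_card.1 T.2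
  have hn2 : 2 ≤ n := by
    by_contra hlt
    have := h.four
    rw [hn] at this
    have := Nat.pow_le_pow_right two_pos (show n ≤ 1 by omega)
    omega
  unfold InList
  rcases hn2.eq_or_lt with rfl | hn3
  · rcases four_case h hn with ⟨e, -⟩ | ⟨e, -⟩
    · iterate 6 right
      exact Or.inl e
    · iterate 7 right
      exact Or.inl e
  haveI := isSolvable_normalizer T h.sq
  haveI : (Cfsg.pPrimeCore 2 (NH T)).Normal := CfsgLib.Solvable.pPrimeCore_normal 2 _
  have hres := Cfsg.Agent.S4025.result (h.eq.pVersion 2 Nat.prime_two) T n hn3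
    ⟨⟨⟨fun a b => Subtype.ext (h.comm a.2 b.2).eq⟩⟩, fun a ha => by rw [pow_two]; exact h.sq a ha⟩
    hn (NH T) rfl (Group.isSolvable_of_surjective (QuotientGroup.mk'_surjective (Cfsg.pPrimeCore 2 (NH T))))
  letI : Fintype (GaloisField 2 3) := Fintype.ofFinite _
  letI : Fintype (GaloisField 2 5) := Fintype.ofFinite _
  have h8 : Fintype.card (GaloisField 2 3) = 8 := card_galoisField_two (by norm_num)
  have h32 : Fintype.card (GaloisField 2 5) = 32 := card_galoisField_two (by norm_num)
  rcases hres with ⟨rfl, -, hh⟩ | ⟨rfl, -, ⟨ψ⟩⟩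
  · rcases hh rfl with hψ | hψ
    · obtain ⟨ψ⟩ := hψ
      have hidx := h.index_CN_of_translations (Cfsg.semiaffineGroup (GaloisField 2 3))
        addRight_mem_semiaffine (k := 7 * 3) (by decide)
        (by rw [card_semiaffine (f := 3) (by rw [h8]; rfl), h8]) (by rw [h8, hn]; rfl) ψ
      by_cases hT : (T : Subgroup H).Normal
      · iterate 2 right
        exact Or.inl (h.equiv_of_normal hT ψ)
      · have := semi_case h hT (t := 3) (Or.inl ⟨by rw [hn]; rfl, rfl⟩) (by rw [hidx, hn]; rfl)
        iterate 5 right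
        exact Or.inl this
    · obtain ⟨ψ⟩ := hψ
      have hidx := h.index_CN_of_translations (Cfsg.affineGroup (GaloisField 2 3))
        addRight_mem_affine (k := 7) (by decide)
        (by rw [card_affine, h8]) (by rw [h8, hn]; rfl) ψ
      by_cases hT : (T : Subgroup H).Normal
      · right
        exact Or.inl (h.equiv_of_normal hT ψ)
      · have hsl := h.sl_two hT (by rw [hn]; norm_num) (by rw [hidx, hn]; rfl)
        obtain ⟨F, iF, iFF, h2, ⟨e⟩, hF, -⟩ := hsl.exists_card T
        obtain ⟨θ⟩ := nonempty_sl_psl_of_card (F := F) (K := GaloisField 2 3)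
          (by rw [hF, hn, h8]; rfl)
        iterate 4 right
        exact Or.inl ⟨e.trans θ⟩
  · have hidx := h.index_CN_of_translations (Cfsg.semiaffineGroup (GaloisField 2 5))
      addRight_mem_semiaffine (k := 31 * 5) (by decide)
      (by rw [card_semiaffine (f := 5) (by rw [h32]; rfl), h32]) (by rw [h32, hn]; rfl) ψ
    by_cases hT : (T : Subgroup H).Normal
    · iterate 3 right
      exact Or.inl (h.equiv_of_normal hT ψ)
    · have := semi_case h hT (t := 5) (Or.inr ⟨by rw [hn]; rfl, rfl⟩) (by rw [hidx, hn]; rfl)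
      iterate 5 right
      exact Or.inl this

theorem q8_facts : (∀ x : QuaternionGroup 2, x * x = 1 → x = 1 ∨ x = QuaternionGroup.a 2) ∧
    ∀ x : QuaternionGroup 2, x * x = 1 ∨ x * x = QuaternionGroup.a 2 := by
  refine ⟨?_, ?_⟩ <;> decide

/-- A quaternion Sylow 2-subgroup. -/
theorem quat_case {H : Type u} [Group H] [Finite H] (hE : EqConj H) (hO : Cfsg.oddCore H = ⊥)
    (T : Sylow 2 H) (e : (T : Subgroup H) ≃* QuaternionGroup 2) : InList H := by
  classical
  haveI : Fact (Nat.Prime 2) := ⟨Nat.prime_two⟩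
  have hTc : Nat.card (T : Subgroup H) = 8 := by
    rw [Nat.card_congr e.toEquiv, Nat.card_eq_fintype_card, QuaternionGroup.card]
  have huniq : ∀ a b : (T : Subgroup H), a * a = 1 → b * b = 1 → a ≠ 1 → b ≠ 1 → a = b := by
    intro a b ha hb ha1 hb1
    rcases q8_facts.1 (e a) (by rw [← map_mul, ha, map_one]) with h1 | h1
    · exact absurd (e.map_eq_one_iff.1 h1) ha1
    rcases q8_facts.1 (e b) (by rw [← map_mul, hb, map_one]) with h2 | h2
    · exact absurd (e.map_eq_one_iff.1 h2) hb1
    exact e.injective (h1.trans h2.symm)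
  have heven : Even (Nat.card H) := by
    rw [even_iff_two_dvd]
    exact (show 2 ∣ Nat.card (T : Subgroup H) by rw [hTc]; norm_num).trans
      (Subgroup.card_subgroup_dvd_card _)
  have hrank : ∀ E : Subgroup H, ¬ IsKleinFour E := by
    intro E hEk
    have hEp : IsPGroup 2 E := IsPGroup.of_card (n := 2) (by rw [hEk.card_four]; rfl)
    obtain ⟨g, hg⟩ := exists_conj_mem_sylow T hEp
    have hsq : ∀ a : E, a * a = 1 := fun a => by
      rw [← pow_two, ← hEk.exponent_two]; exact Monoid.pow_exponent_eq_one a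
    let f : E → (T : Subgroup H) := fun a => ⟨g * a * g⁻¹, hg a a.2⟩
    have hfsq : ∀ a, f a * f a = 1 := fun a => Subtype.ext (by
      show g * (a : H) * g⁻¹ * (g * (a : H) * g⁻¹) = 1
      rw [conj_mul, ← Subgroup.coe_mul, hsq, OneMemClass.coe_one, mul_one, mul_inv_cancel])
    have hf : Function.Injective f := fun a b hab =>
      Subtype.ext (by simpa [f] using congrArg Subtype.val hab)
    have hf1 : f 1 = 1 := Subtype.ext (by simp [f])
    haveI := Fintype.ofFinite E
    have hle : Fintype.card E ≤ 2 := by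
      by_contra hlt
      obtain ⟨a, ha⟩ := Fintype.exists_ne_of_one_lt_card (show 1 < Fintype.card E by omega) (1 : E)
      obtain ⟨b, hb1, hba⟩ := (Finset.one_lt_card (s := Finset.univ.erase (1 : E))).1 (by
        rw [Finset.card_erase_of_mem (Finset.mem_univ _), Finset.card_univ]; omega) |> fun ⟨x, hx, y, hy, hxy⟩ =>
          if hxa : x = a then (⟨y, (Finset.mem_erase.1 hy).1, fun e' => hxy (hxa.trans e'.symm)⟩ :
            ∃ b : E, b ≠ 1 ∧ b ≠ a) else ⟨x, (Finset.mem_erase.1 hx).1, hxa⟩
      exact hba (hf (huniq _ _ (hfsq b) (hfsq a) (fun e' => hb1 (hf (e'.trans hf1.symm)))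
        (fun e' => ha (hf (e'.trans hf1.symm)))))
    rw [← Nat.card_eq_fintype_card, hEk.card_four] at hle
    omega
  obtain ⟨z, hz, hzo⟩ := centralInvol H heven hrank fun N hN hodd => le_bot_iff.1 (hO ▸ le_oddCore hN hodd)
  have hzT : z ∈ (T : Subgroup H) := by
    obtain ⟨g, hg⟩ := exists_conj_invol_mem_sylow T hzo
    rwa [Subgroup.mem_center_iff.1 hz g, mul_inv_cancel_right] at hg
  have hz1 := invol_ne_one hzo
  set Z := zpowers z with hZdef
  haveI hZn : Z.Normal := ⟨fun x hx g => by
    have hxc : x ∈ Subgroup.center H := zpowers_le.2 hz hx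
    rw [Subgroup.mem_center_iff.1 hxc g, mul_inv_cancel_right]
    exact hx⟩
  have hZ2 : Nat.card Z = 2 := by rw [Nat.card_zpowers, hzo]
  have hEq := hE.quotient Z
  -- the odd core of the quotient is trivial
  have hOq : Cfsg.oddCore (H ⧸ Z) = ⊥ := by
    set M := (Cfsg.oddCore (H ⧸ Z)).comap (QuotientGroup.mk' Z) with hM
    haveI := normal_oddCore (H ⧸ Z)
    haveI : M.Normal := inferInstance
    have hzM : z ∈ M := by
      show (z : H ⧸ Z) ∈ Cfsg.oddCore (H ⧸ Z)
      rw [(QuotientGroup.eq_one_iff z).2 (mem_zpowers z)]; exact one_mem _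
    have hMi : Nat.card M = 2 * Nat.card (Cfsg.oddCore (H ⧸ Z)) := by
      have h1 := M.card_mul_index
      rw [hM, Subgroup.index_comap_of_surjective _ (QuotientGroup.mk'_surjective Z),
        Z.card_eq_card_quotient_mul_card_subgroup, hZ2,
        ← (Cfsg.oddCore (H ⧸ Z)).card_mul_index] at h1
      exact Nat.eq_of_mul_eq_mul_right (Nat.pos_of_ne_zero Subgroup.index_ne_zero_of_finite)
        (h1.trans (by ring))
    obtain ⟨P⟩ := (inferInstance : Nonempty (Sylow 2 M))
    have hP : Nat.card (P : Subgroup M) = 2 := by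
      rw [P.card_eq_multiplicity, hMi, Nat.factorization_mul two_ne_zero Nat.card_pos.ne',
        Finsupp.add_apply, Nat.Prime.factorization_self Nat.prime_two,
        Nat.factorization_eq_zero_of_not_dvd (fun hd =>
          Nat.not_even_iff_odd.2 (odd_card_oddCore (H ⧸ Z)) (even_iff_two_dvd.2 hd))]
      rfl
    haveI : IsCyclic (P : Subgroup M) := isCyclic_of_prime_card hP
    obtain ⟨W, hWn, hWo, hWi⟩ := exists_compl_of_cyclic_two P
    have hW := le_oddCore hWn hWo
    rw [oddCore_eq_bot_of_normal hO M, le_bot_iff] at hW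
    rw [hW, Subgroup.index_bot, hP, hMi] at hWi
    exact Subgroup.card_eq_one.1 (by omega)
  set T' : Sylow 2 (H ⧸ Z) := T.mapSurjective (f := QuotientGroup.mk' Z) (QuotientGroup.mk'_surjective Z)
  have hT'sq : ∀ a ∈ (T' : Subgroup (H ⧸ Z)), a * a = 1 := by
    rintro _ ⟨a, ha, rfl⟩
    rw [← map_mul]
    refine (QuotientGroup.eq_one_iff _).2 ?_
    rcases q8_facts.2 (e ⟨a, ha⟩) with h1 | h1 <;> rw [← map_mul] at h1
    · have := congrArg Subtype.val (e.map_eq_one_iff.1 h1)
      rw [show a * a = 1 from this]; exact one_mem _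
    · have hsq : (⟨a, ha⟩ * ⟨a, ha⟩ : (T : Subgroup H)) ≠ 1 := fun e1 => by
        rw [e1, map_one] at h1; exact absurd h1 (by decide)
      have h22 : (⟨a, ha⟩ * ⟨a, ha⟩ : (T : Subgroup H)) * (⟨a, ha⟩ * ⟨a, ha⟩) = 1 := e.injective (by
        rw [map_mul, h1, map_one]; decide)
      have := congrArg Subtype.val (huniq _ ⟨z, hzT⟩ h22 (Subtype.ext (invol_mul_self hzo)) hsq
        (fun e1 => hz1 (congrArg Subtype.val e1)))
      rw [show a * a = z from this]; exact mem_zpowers z
  have hcH : Nat.card H = Nat.card (H ⧸ Z) * 2 := by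
    rw [Z.card_eq_card_quotient_mul_card_subgroup, hZ2]
  have hT'4 : Nat.card (T' : Subgroup (H ⧸ Z)) = 4 := by
    have h1 : (Nat.card H).factorization 2 = 3 := by
      have h3 := T.card_eq_multiplicity
      rw [hTc] at h3
      exact Nat.pow_right_injective le_rfl (show 2 ^ (Nat.card H).factorization 2 = 2 ^ 3 from h3.symm)
    rw [hcH, Nat.factorization_mul Nat.card_pos.ne' two_ne_zero, Finsupp.add_apply,
      Nat.Prime.factorization_self Nat.prime_two] at h1
    rw [T'.card_eq_multiplicity, show (Nat.card (H ⧸ Z)).factorization 2 = 2 by omega]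
    rfl
  unfold InList
  rcases four_case (T := T') ⟨hEq, hOq, hT'sq, hT'4.ge⟩ hT'4 with ⟨-, hc⟩ | ⟨⟨ε⟩, hc⟩ <;> rw [hc] at hcH
  · iterate 8 right
    left
    rcases Cfsg.Agent.S0106.result T 1 le_rfl ⟨e⟩ with ⟨P, N, hNn, hNP⟩ | ⟨A, K, hK, ⟨ε⟩⟩
    · exfalso
      have hPc : Nat.card (P : Subgroup H) = 8 := by
        rw [P.card_eq_multiplicity, ← T.card_eq_multiplicity, hTc]
      have hNodd : Odd (Nat.card N) := by
        rw [← hNP.index_eq_card]; exact odd_index_sylow_two P
      have hN1 := le_oddCore hNn hNodd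
      rw [hO, le_bot_iff] at hN1
      have h1 := hNP.card_mul
      rw [hN1, Subgroup.card_bot, hPc, hcH] at h1
      omega
    · haveI := hK
      have hc24 : Nat.card (A ⧸ K.subgroupOf A) = 24 := by
        rw [Nat.card_congr ε.toEquiv, CfsgLib.Classical.card_sl_two_eq, ZMod.card]
        norm_num
      have hle : Nat.card A ≤ 24 := (Subgroup.card_le_card_group A).trans (by rw [hcH])
      have hA := (K.subgroupOf A).card_eq_card_quotient_mul_card_subgroup
      rw [hc24] at hA
      have hK1 : Nat.card (K.subgroupOf A) = 1 := by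
        have := Nat.card_pos (α := K.subgroupOf A)
        omega
      have hAtop : A = ⊤ := Subgroup.eq_top_of_le_card A (by rw [hA, hK1, hcH])
      exact ⟨Subgroup.topEquiv.symm.trans ((MulEquiv.subgroupCongr hAtop.symm).trans
        (QuotientGroup.quotientBot.symm.trans
          ((QuotientGroup.quotientMulEquivOfEq (Subgroup.card_eq_one.1 hK1).symm).trans ε)))⟩
  · iterate 9 right
    refine Cfsg.Agent.S3378.result.1 H hcH (fun hs => ?_) (fun P => ?_)
    · haveI := hs
      haveI : Group.IsSolvable (H ⧸ Z) := Group.isSolvable_of_surjective (QuotientGroup.mk'_surjective Z)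
      exact not_isSolvable_alt_five (Group.isSolvable_of_surjective (f := ε.toMonoidHom) ε.surjective)
    · obtain ⟨g, hg⟩ := MulAction.exists_smul_eq H P T
      exact ⟨(((P.equivSMul g).trans (MulEquiv.subgroupCongr (congrArg Sylow.toSubgroup hg)))).trans e⟩

/-- The quotient by the odd core is in the list. -/
theorem inList_of_eqConj {H : Type u} [Group H] [Finite H] (hE : EqConj H)
    (hO : Cfsg.oddCore H = ⊥) : InList H := by
  classical
  haveI : Fact (Nat.Prime 2) := ⟨Nat.prime_two⟩
  obtain ⟨T⟩ := (inferInstance : Nonempty (Sylow 2 H))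
  by_cases hc : IsCyclic (T : Subgroup H)
  · left
    haveI := hc
    obtain ⟨W, hWn, hWo, hWi⟩ := exists_compl_of_cyclic_two T
    have hW := le_oddCore hWn hWo
    rw [hO, le_bot_iff] at hW
    rw [hW, Subgroup.index_bot] at hWi
    have htop : (T : Subgroup H) = ⊤ := Subgroup.eq_top_of_card_eq _ hWi.symm
    exact ⟨isCyclic_of_surjective _ (((MulEquiv.subgroupCongr htop).trans Subgroup.topEquiv).surjective),
      T.2.of_equiv ((MulEquiv.subgroupCongr htop).trans Subgroup.topEquiv)⟩
  rcases Cfsg.Agent.S4020.result hE.pVersion T with h1 | h1 | ⟨⟨e⟩⟩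
  · exact absurd h1 hc
  · refine elem_case (T := T) ⟨hE, hO, fun a ha => by rw [← pow_two]; exact h1.2 a ha, ?_⟩
    by_contra hlt
    obtain ⟨n, hn⟩ := IsPGroup.iff_card.1 T.2
    rcases n with _ | _ | n
    · haveI := (Nat.card_eq_one_iff_unique.1 hn).1
      exact hc isCyclic_of_subsingleton
    · exact hc (isCyclic_of_prime_card (hn.trans (pow_one 2)))
    · rw [hn, pow_succ, pow_succ] at hlt
      have := Nat.one_le_two_pow (n := n)
      omega
  · exact quat_case hE hO T e

end CfsgLib.EqOrder
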